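import Mathlib

/-! A faithful two-by-two polynomial representation of the free group on countably many letters. -/

set_option autoImplicit false

namespace Cfsg.Agent.Known

open Polynomial Matrix

variable {R : Type*} [CommRing R]

/-- The matrix of an element. -/
abbrev mval (g : SpecialLinearGroup (Fin 2) R) : Matrix (Fin 2) (Fin 2) R := g

local notation "⟪" g "⟫" => mval g

/-- Upper unitriangular. -/
def upM (a : R) : SpecialLinearGroup (Fin 2) R := Matrix.SpecialLinearGroup.transvection zero_ne_one a

/-- Lower unitriangular. -/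
def lowM (a : R) : SpecialLinearGroup (Fin 2) R := Matrix.SpecialLinearGroup.transvection one_ne_zero a

theorem mval_mul (g h : SpecialLinearGroup (Fin 2) R) : ⟪g * h⟫ = ⟪g⟫ * ⟪h⟫ :=
  Matrix.SpecialLinearGroup.coe_mul g h

theorem mval_one : ⟪(1 : SpecialLinearGroup (Fin 2) R)⟫ = 1 := Matrix.SpecialLinearGroup.coe_one

theorem upM_inv (a : R) : (upM a)⁻¹ = upM (-a) :=
  Matrix.SpecialLinearGroup.transvection_inv _ a

theorem lowM_inv (a : R) : (lowM a)⁻¹ = lowM (-a) :=
  Matrix.SpecialLinearGroup.transvection_inv _ a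

theorem upM_mulVec (a : R) (v : Fin 2 → R) :
    ⟪upM a⟫ *ᵥ v = ![v 0 + a * v 1, v 1] := by
  funext i; fin_cases i <;> simp [upM, Matrix.SpecialLinearGroup.transvection_coe, mulVec, dotProduct, Fin.sum_univ_two]

theorem lowM_mulVec (a : R) (v : Fin 2 → R) :
    ⟪lowM a⟫ *ᵥ v = ![v 0, v 1 + a * v 0] := by
  funext i; fin_cases i <;> simp [lowM, Matrix.SpecialLinearGroup.transvection_coe, mulVec, dotProduct, Fin.sum_univ_two, add_comm]

/-- The offsets. -/
noncomputable def offs (i : ℕ) : R[X] := X ^ (i + 3)

/-- The core element. -/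
noncomputable def coreM : SpecialLinearGroup (Fin 2) R[X] := lowM X * upM X * lowM (X ^ 2)

/-- The image of a letter. -/
noncomputable def genM (i : ℕ) : SpecialLinearGroup (Fin 2) R[X] :=
  upM (offs i) * coreM * upM (-offs i)

/-- The representation. -/
noncomputable def freeRep (R : Type*) [CommRing R] :
    FreeGroup ℕ →* SpecialLinearGroup (Fin 2) R[X] :=
  FreeGroup.lift genM

theorem freeRep_map {S : Type*} [CommRing S] (φ : R →+* S) (w : FreeGroup ℕ) :
    Matrix.SpecialLinearGroup.map (n := Fin 2) (Polynomial.mapRingHom φ) (freeRep R w) = freeRep S w := by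
  suffices h : (Matrix.SpecialLinearGroup.map (n := Fin 2) (Polynomial.mapRingHom φ)).comp (freeRep R) =
      freeRep S from DFunLike.congr_fun h w
  refine FreeGroup.ext_hom _ _ (fun i => ?_)
  simp only [MonoidHom.comp_apply, freeRep, FreeGroup.lift_apply_of]
  simp only [genM, coreM, map_mul]
  have hu : ∀ a : R[X], Matrix.SpecialLinearGroup.map (n := Fin 2) (Polynomial.mapRingHom φ) (upM a) =
      upM (a.map φ) := fun a => by
    ext i j; fin_cases i <;> fin_cases j <;> simp [upM, Matrix.SpecialLinearGroup.transvection_coe]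
  have hl : ∀ a : R[X], Matrix.SpecialLinearGroup.map (n := Fin 2) (Polynomial.mapRingHom φ) (lowM a) =
      lowM (a.map φ) := fun a => by
    ext i j; fin_cases i <;> fin_cases j <;> simp [lowM, Matrix.SpecialLinearGroup.transvection_coe]
  simp [hu, hl, offs]

section Nonzero

variable {K : Type*} [Field K]

/-- The first coordinate dominates. -/
def IsTop (v : Fin 2 → K[X]) : Prop := (v 1).degree < (v 0).degree

/-- The second coordinate dominates. -/
def IsBot (v : Fin 2 → K[X]) : Prop := (v 0).degree < (v 1).degree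

theorem degree_add_mul {b x y : K[X]} (hb : 0 < b.degree) (h : y.degree < x.degree) :
    x.degree < (y + b * x).degree := by
  have hx : x ≠ 0 := fun e => by simp [e] at h
  have hb0 : b ≠ 0 := fun e => by simp [e] at hb
  have h1 : x.degree < (b * x).degree := by
    rw [degree_mul, degree_eq_natDegree hx, degree_eq_natDegree hb0]
    have := natDegree_pos_iff_degree_pos.mpr hb
    exact_mod_cast (show x.natDegree < b.natDegree + x.natDegree by omega)
  rwa [degree_add_eq_right_of_degree_lt (h.trans h1)]

theorem low_top {b : K[X]} (hb : 0 < b.degree) {v : Fin 2 → K[X]} (h : IsTop v) :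
    IsBot (⟪lowM b⟫ *ᵥ v) := by
  rw [lowM_mulVec]; exact degree_add_mul hb h

theorem up_bot {b : K[X]} (hb : 0 < b.degree) {v : Fin 2 → K[X]} (h : IsBot v) :
    IsTop (⟪upM b⟫ *ᵥ v) := by
  rw [upM_mulVec]; exact degree_add_mul hb h

/-- A signed core element, split off its last lower factor. -/
noncomputable def tailPart (s : Bool) : K[X] := bif s then X ^ 2 else -X

/-- The first parameter of a signed core element. -/
noncomputable def headPart (s : Bool) : K[X] := bif s then X else -(X ^ 2)

/-- The middle parameter of a signed core element. -/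
noncomputable def midPart (s : Bool) : K[X] := bif s then X else -X

/-- A signed letter. -/
noncomputable def signed (a : ℕ × Bool) : SpecialLinearGroup (Fin 2) K[X] :=
  upM (offs a.1) * (lowM (headPart a.2) * upM (midPart a.2) * lowM (tailPart a.2)) * upM (-offs a.1)

theorem signed_eq (a : ℕ × Bool) :
    signed (K := K) a = bif a.2 then genM a.1 else (genM a.1)⁻¹ := by
  obtain ⟨i, s⟩ := a
  cases s
  · simp [signed, genM, coreM, headPart, midPart, tailPart, upM_inv, lowM_inv, _root_.mul_inv_rev, mul_assoc]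
  · simp [signed, genM, coreM, headPart, midPart, tailPart, mul_assoc]

theorem up_add (a b : K[X]) (v : Fin 2 → K[X]) :
    ⟪upM a⟫ *ᵥ (⟪upM b⟫ *ᵥ v) = ⟪upM (a + b)⟫ *ᵥ v := by
  simp only [upM_mulVec]
  funext i; fin_cases i <;> simp <;> ring

theorem low_add (a b : K[X]) (v : Fin 2 → K[X]) :
    ⟪lowM a⟫ *ᵥ (⟪lowM b⟫ *ᵥ v) = ⟪lowM (a + b)⟫ *ᵥ v := by
  simp only [lowM_mulVec]
  funext i; fin_cases i <;> simp <;> ring

theorem up_zero (v : Fin 2 → K[X]) : ⟪upM (0 : K[X])⟫ *ᵥ v = v := by
  rw [upM_mulVec]; funext i; fin_cases i <;> simp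

theorem up_e1 (a : K[X]) : ⟪upM a⟫ *ᵥ ![1, 0] = (![1, 0] : Fin 2 → K[X]) := by
  rw [upM_mulVec]; simp

theorem deg_head (s : Bool) : 0 < (headPart (K := K) s).degree := by
  cases s <;> simp [headPart]

theorem deg_mid (s : Bool) : 0 < (midPart (K := K) s).degree := by
  cases s <;> simp [midPart]

theorem deg_tail (s : Bool) : 0 < (tailPart (K := K) s).degree := by
  cases s <;> simp [tailPart]

theorem deg_tail_head (s : Bool) : 0 < (tailPart (K := K) s + headPart s).degree := by
  have h : (X : K[X]).degree < ((X : K[X]) ^ 2).degree := by simp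
  cases s
  · have e : tailPart (K := K) false + headPart false = -(X + X ^ 2) := by
      simp only [tailPart, headPart, cond_false]; ring
    rw [e, degree_neg, degree_add_eq_right_of_degree_lt h]; simp
  · rw [tailPart, headPart, cond_true, cond_true, degree_add_eq_left_of_degree_lt h]; simp

theorem deg_offs_sub {i j : ℕ} (hij : i ≠ j) : 0 < (-offs i + offs j : K[X]).degree := by
  rcases Nat.lt_or_gt_of_ne hij with h | h
  · rw [degree_add_eq_right_of_degree_lt (by simp [offs]; norm_cast; omega)]
    simp [offs]; exact_mod_cast Nat.succ_pos _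
  · rw [degree_add_eq_left_of_degree_lt (by simp [offs]; norm_cast; omega)]
    simp [offs]; exact_mod_cast Nat.succ_pos _

/-- The product of the signed letters. -/
noncomputable def wordMat (L : List (ℕ × Bool)) : SpecialLinearGroup (Fin 2) K[X] :=
  (L.map (signed (K := K))).prod

theorem word_invariant : ∀ (L : List (ℕ × Bool)), FreeGroup.IsReduced L → ∀ a ∈ L.head?,
    ∃ z : Fin 2 → K[X], IsTop z ∧
      ⟪upM (-offs a.1)⟫ *ᵥ (⟪wordMat (K := K) L⟫ *ᵥ ![1, 0]) = ⟪lowM (headPart a.2)⟫ *ᵥ z := by
  intro L
  induction L with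
  | nil => intro _ a ha; simp at ha
  | cons b L ih =>
    intro hL a ha
    simp only [List.head?_cons, Option.mem_def, Option.some.injEq] at ha
    subst ha
    refine ⟨⟪upM (midPart b.2)⟫ *ᵥ (⟪lowM (tailPart b.2)⟫ *ᵥ (⟪upM (-offs b.1)⟫ *ᵥ
      (⟪wordMat (K := K) L⟫ *ᵥ ![1, 0]))), ?_, ?_⟩
    · refine up_bot (deg_mid b.2) ?_
      cases L with
      | nil =>
        simp only [wordMat, List.map_nil, List.prod_nil, mval_one, one_mulVec, up_e1]
        exact low_top (deg_tail b.2) (by simp [IsTop])
      | cons c L =>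
        rw [FreeGroup.isReduced_cons_cons] at hL
        obtain ⟨hbc, hL⟩ := hL
        obtain ⟨z, hz, he⟩ := ih hL c (by simp)
        by_cases hij : b.1 = c.1
        · rw [hij, he, hbc hij, low_add]
          exact low_top (deg_tail_head _) hz
        · have h1 : ⟪upM (-offs b.1)⟫ *ᵥ (⟪wordMat (K := K) (c :: L)⟫ *ᵥ ![1, 0]) =
              ⟪upM (-offs b.1 + offs c.1)⟫ *ᵥ (⟪lowM (headPart c.2)⟫ *ᵥ z) := by
            rw [← he, up_add, add_neg_cancel_right]
          rw [h1]
          exact low_top (deg_tail b.2) (up_bot (deg_offs_sub hij) (low_top (deg_head c.2) hz))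
    · simp only [wordMat, List.map_cons, List.prod_cons, signed, mval_mul, ← mulVec_mulVec]
      rw [up_add, neg_add_cancel, up_zero]

theorem freeRep_lower_ne_zero (w : FreeGroup ℕ) (hw : w ≠ 1) : ⟪freeRep K w⟫ 1 0 ≠ 0 := by
  cases hL : w.toWord with
  | nil => exact absurd (FreeGroup.toWord_eq_nil_iff.mp hL) hw
  | cons a L =>
    obtain ⟨z, hz, he⟩ := word_invariant (K := K) (a :: L)
      (hL ▸ FreeGroup.isReduced_toWord) a (by simp)
    have hrep : freeRep K w = wordMat (a :: L) := by
      rw [← FreeGroup.mk_toWord (x := w), hL, freeRep, FreeGroup.lift_mk, wordMat]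
      congr 1
      refine List.map_congr_left fun x _ => ?_
      exact (signed_eq x).symm
    intro h
    rw [hrep] at h
    have hb := low_top (deg_head a.2) hz
    rw [← he, upM_mulVec, IsBot] at hb
    simp [mulVec, dotProduct, Fin.sum_univ_two, h] at hb

end Nonzero

/-- Evaluating at a suitable point of a large field keeps the lower entry non-zero. -/
theorem exists_degree_bound (w : FreeGroup ℕ) (hw : w ≠ 1) :
    ∃ D : ℕ, ∀ (F : Type*) [Field F] [Finite F], D < Nat.card F →
      ∃ f : ℕ → SpecialLinearGroup (Fin 2) F, (FreeGroup.lift f w).1 1 0 ≠ 0 := by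
  refine ⟨((freeRep ℤ w).1 1 0).natDegree, fun F _ _ hF => ?_⟩
  classical
  letI := Fintype.ofFinite F
  have hp := freeRep_lower_ne_zero (K := F) w hw
  have hd : ((freeRep F w).1 1 0).natDegree < Fintype.card F := by
    rw [← freeRep_map (Int.castRingHom F) w, ← Nat.card_eq_fintype_card]
    exact lt_of_le_of_lt natDegree_map_le hF
  obtain ⟨x, hx⟩ : ∃ x : F, ((freeRep F w).1 1 0).eval x ≠ 0 := by
    by_contra hc
    push Not at hc
    refine hp (eq_zero_of_natDegree_lt_card_of_eval_eq_zero _ Function.injective_id hc ?_)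
    exact hd
  refine ⟨fun i => Matrix.SpecialLinearGroup.map (n := Fin 2) (Polynomial.evalRingHom x) (genM i), ?_⟩
  have : FreeGroup.lift (fun i => Matrix.SpecialLinearGroup.map (n := Fin 2) (Polynomial.evalRingHom x) (genM i)) w =
      Matrix.SpecialLinearGroup.map (n := Fin 2) (Polynomial.evalRingHom x) (freeRep F w) := by
    suffices h : FreeGroup.lift (fun i => Matrix.SpecialLinearGroup.map (n := Fin 2) (Polynomial.evalRingHom x) (genM i)) =
        (Matrix.SpecialLinearGroup.map (n := Fin 2) (Polynomial.evalRingHom x)).comp (freeRep F) from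
      DFunLike.congr_fun h w
    exact FreeGroup.ext_hom _ _ fun i => by simp [freeRep]
  rw [this]
  exact hx

end Cfsg.Agent.Known
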