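import Cfsg.Prelude.Def_Classical
import Mathlib

/-! Standard involutions of matrix groups in characteristic two. -/

set_option autoImplicit false

namespace Cfsg.Agent.Known.InvMat

open Matrix

variable {F : Type*} [Field F]

theorem rank_eq_of_factor {n l : ℕ} (M : Matrix (Fin n) (Fin n) F) (A : Matrix (Fin n) (Fin l) F)
    (B : Matrix (Fin l) (Fin n) F) (r c : Fin l → Fin n)
    (hM : M = A * B) (h1 : M.submatrix r c = 1) : M.rank = l := by
  refine le_antisymm ?_ ?_
  · rw [hM]; exact (Matrix.rank_mul_le_left A B).trans (Matrix.rank_le_width A)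
  · have h := Matrix.rank_submatrix_le M r c
    rw [h1] at h
    simpa [Matrix.rank_one] using h

/-- The embedding of the first `l` indices. -/
def lo {n l : ℕ} (h : 2 * l ≤ n) (k : Fin l) : Fin n := ⟨k.val, by have := k.isLt; omega⟩

/-- The embedding of the last `l` indices. -/
def hi {n l : ℕ} (h : 2 * l ≤ n) (k : Fin l) : Fin n := ⟨k.val + (n - l), by have := k.isLt; omega⟩

theorem lo_ne_hi {n l : ℕ} (h : 2 * l ≤ n) (a b : Fin l) : lo h a ≠ hi h b := fun e => by
  have := congrArg Fin.val e; have := a.isLt; simp only [lo, hi] at *; omega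

theorem lowerLeft_eq {n l : ℕ} (h : 2 * l ≤ n) :
    (Matrix.of (fun i j : Fin n => if j.val < l ∧ i.val = j.val + (n - l) then (1 : F) else 0)) =
      Matrix.of (fun (i : Fin n) (k : Fin l) => if i = hi h k then (1 : F) else 0) *
      Matrix.of (fun (k : Fin l) (j : Fin n) => if j = lo h k then (1 : F) else 0) := by
  ext i j
  simp only [Matrix.mul_apply, Matrix.of_apply, mul_ite, mul_one, mul_zero]
  by_cases hj : j.val < l
  · rw [Finset.sum_eq_single ⟨j.val, hj⟩]
    · simp [lo, hi, hj, Fin.ext_iff]
    · intro k _ hk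
      rw [if_neg]; intro e; exact hk (Fin.ext (by simp [e, lo]))
    · simp
  · rw [Finset.sum_eq_zero, if_neg (fun e => hj e.1)]
    intro k _
    rw [if_neg]; intro e; exact hj (by rw [e]; exact k.isLt)

theorem exists_lowerLeft [CharP F 2] {n : ℕ} (l : ℕ) (h1 : 1 ≤ l) (h2 : 2 * l ≤ n) :
    ∃ a : Matrix.SpecialLinearGroup (Fin n) F, (a : Matrix (Fin n) (Fin n) F) = 1 + Matrix.of
      (fun i j : Fin n => if j.val < l ∧ i.val = j.val + (n - l) then (1 : F) else 0) ∧
      orderOf a = 2 ∧ ((a : Matrix (Fin n) (Fin n) F) - 1).rank = l := by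
  set E : Matrix (Fin n) (Fin n) F :=
    Matrix.of (fun i j : Fin n => if j.val < l ∧ i.val = j.val + (n - l) then (1 : F) else 0) with hE
  have hdet : (1 + E).det = 1 := by
    rw [Matrix.det_of_lowerTriangular]
    · refine Finset.prod_eq_one fun i _ => ?_
      simp only [hE, Matrix.add_apply, Matrix.one_apply, Matrix.of_apply, if_true]
      split_ifs <;> first | omega | simp
    · intro i j hij
      have hij' : i.val < j.val := by simpa using hij
      simp only [hE, Matrix.add_apply, Matrix.one_apply, Matrix.of_apply, Fin.ext_iff]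
      split_ifs <;> first | omega | simp
  have hrank : E.rank = l := by
    refine rank_eq_of_factor E _ _ (hi h2) (lo h2) (lowerLeft_eq h2) ?_
    ext a b
    simp only [hE, Matrix.submatrix_apply, Matrix.of_apply, Matrix.one_apply, lo, hi, Fin.ext_iff]
    have := a.isLt
    have := b.isLt
    split_ifs <;> first | omega | simp
  have hsq : E * E = 0 := by
    ext i j
    rw [Matrix.mul_apply, Matrix.zero_apply]
    refine Finset.sum_eq_zero fun k _ => ?_
    simp [hE]; intros; omega
  refine ⟨⟨1 + E, hdet⟩, rfl, ?_, by simpa using hrank⟩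
  refine orderOf_eq_prime ?_ ?_
  · refine (pow_two _).trans (Subtype.ext ?_)
    show (1 + E) * (1 + E) = 1
    rw [mul_add, add_mul, add_mul, one_mul, one_mul, mul_one, hsq, add_zero, add_assoc,
      show E + E = 0 from Matrix.ext fun i j => CharTwo.add_self_eq_zero _, add_zero]
  · intro e
    have h0 : E = 0 := by
      have h' : 1 + E = 1 := congrArg Subtype.val e
      simpa using h'
    rw [h0, Matrix.rank_zero] at hrank
    omega

/-- Exchange `i` with `n - l + i` for `i < l`. -/
def swapFn {n l : ℕ} (h : 2 * l ≤ n) (i : Fin n) : Fin n :=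
  if hi' : i.val < l then ⟨i.val + (n - l), by omega⟩
  else if n - l ≤ i.val then ⟨i.val - (n - l), by omega⟩ else i

theorem swapFn_invol {n l : ℕ} (h : 2 * l ≤ n) : Function.Involutive (swapFn h) := by
  intro i
  have := i.isLt
  unfold swapFn
  split_ifs <;> simp only [Fin.ext_iff] at * <;> (try dsimp only at *) <;> omega

theorem exists_swap [CharP F 2] {n q : ℕ} (l : ℕ) (h1 : 1 ≤ l) (h2 : 2 * l ≤ n) :
    ∃ a : ↥(Cfsg.SU n F q),
      (((a : Matrix.SpecialLinearGroup (Fin n) F) : Matrix (Fin n) (Fin n) F) = Matrix.of (fun i j : Fin n =>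
        if (j.val < l ∧ i.val = j.val + (n - l)) ∨ (i.val < l ∧ j.val = i.val + (n - l)) ∨
          (i = j ∧ l ≤ i.val ∧ i.val < n - l) then (1 : F) else 0)) ∧ orderOf a = 2 ∧
      ((((a : Matrix.SpecialLinearGroup (Fin n) F) : Matrix (Fin n) (Fin n) F)) - 1).rank = l := by
  let π : Equiv.Perm (Fin n) := (swapFn_invol h2).toPerm _
  set M : Matrix (Fin n) (Fin n) F := π.permMatrix F with hM
  have hMeq : M = Matrix.of (fun i j : Fin n =>
      if (j.val < l ∧ i.val = j.val + (n - l)) ∨ (i.val < l ∧ j.val = i.val + (n - l)) ∨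
          (i = j ∧ l ≤ i.val ∧ i.val < n - l) then (1 : F) else 0) := by
    ext i j
    have := i.isLt
    have := j.isLt
    simp only [hM, Equiv.Perm.permMatrix, PEquiv.toMatrix_apply, Equiv.toPEquiv_apply, π,
      Function.Involutive.coe_toPerm, Matrix.of_apply, Option.mem_def, Option.some.injEq]
    refine if_congr ?_ rfl rfl
    simp only [swapFn]
    split_ifs <;> simp [Fin.ext_iff] <;> omega
  have hdet : M.det = 1 := by
    rw [hM, Matrix.det_permutation]
    rcases Int.units_eq_one_or (Equiv.Perm.sign π) with h | h <;> simp [h, CharTwo.neg_eq]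
  have hmul : ∀ u : Fin n → F, M *ᵥ u = u ∘ π := fun u => Matrix.permMatrix_mulVec π
  have hmem : (⟨M, hdet⟩ : Matrix.SpecialLinearGroup (Fin n) F) ∈ Cfsg.SU n F q := by
    intro u v
    show Cfsg.hermForm n F q (M *ᵥ u) (M *ᵥ v) = _
    rw [hmul, hmul]
    exact Equiv.sum_comp π (fun i => u i * v i ^ q)
  have hdiff : M - 1 = Matrix.of (fun (i : Fin n) (k : Fin l) => if i = hi h2 k ∨ i = lo h2 k then (1 : F) else 0) *
      Matrix.of (fun (k : Fin l) (j : Fin n) => if j = hi h2 k ∨ j = lo h2 k then (1 : F) else 0) := by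
    rw [hMeq]
    ext i j
    have := i.isLt
    have := j.isLt
    simp only [Matrix.sub_apply, Matrix.mul_apply, Matrix.of_apply, mul_ite, mul_one, mul_zero,
      Matrix.one_apply, CharTwo.sub_eq_add]
    by_cases hj : j.val < l ∨ n - l ≤ j.val
    · rw [Finset.sum_eq_single
        (⟨if j.val < l then j.val else j.val - (n - l), by split_ifs <;> omega⟩ : Fin l)]
      · simp only [lo, hi, Fin.ext_iff]
        split_ifs <;> first | omega | (exact CharTwo.add_self_eq_zero _) | simp
      · intro k _ hk
        rw [if_neg]; intro e; apply hk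
        simp only [lo, hi, Fin.ext_iff] at *
        have := k.isLt
        split_ifs <;> omega
      · simp
    · rw [Finset.sum_eq_zero]
      · simp only [Fin.ext_iff]
        split_ifs <;> first | omega | (exact CharTwo.add_self_eq_zero _) | simp
      · intro k _
        rw [if_neg]; simp only [lo, hi, Fin.ext_iff]; have := k.isLt; omega
  have hrank : (M - 1).rank = l := by
    refine rank_eq_of_factor _ _ _ (lo h2) (hi h2) hdiff ?_
    rw [hMeq]
    ext a b
    simp only [Matrix.submatrix_apply, Matrix.sub_apply, Matrix.of_apply, Matrix.one_apply, lo, hi,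
      Fin.ext_iff]
    have := a.isLt
    have := b.isLt
    split_ifs <;> first | omega | simp
  refine ⟨⟨⟨M, hdet⟩, hmem⟩, hMeq, ?_, hrank⟩
  refine orderOf_eq_prime ?_ ?_
  · refine Subtype.ext (Subtype.ext ?_)
    rw [sq]
    show M * M = 1
    refine Matrix.ext_of_mulVec_single fun i => ?_
    rw [← Matrix.mulVec_mulVec, hmul, hmul, Matrix.one_mulVec, Function.comp_assoc]
    rw [show ((π : Fin n → Fin n) ∘ π) = id from funext (swapFn_invol h2), Function.comp_id]
  · intro e
    have h' : M = 1 := congrArg (fun a : ↥(Cfsg.SU n F q) => a.1.1) e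
    rw [h', sub_self, Matrix.rank_zero] at hrank
    omega

end Cfsg.Agent.Known.InvMat
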