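import Cfsg.Agent.Lib.Known.FreeMatrices
import Cfsg.Agent.Lib.Classical.Linear
import Cfsg.Prelude.Def_Classical

/-! A non-trivial word is not a law in large alternating and classical groups. -/

set_option autoImplicit false

namespace Cfsg.Agent.Known

open Matrix

theorem not_central_of_lower {F : Type*} [Field F] (x : Matrix.SpecialLinearGroup (Fin 2) F)
    (hx : x.1 1 0 ≠ 0) : x ∉ Subgroup.center (Matrix.SpecialLinearGroup (Fin 2) F) := by
  intro h
  obtain ⟨r, -, hr⟩ := Matrix.SpecialLinearGroup.mem_center_iff.mp h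
  refine hx ?_
  rw [← hr]
  simp

theorem mk_ne_one {S H : Type*} [Group S] [Group H] (ψ : S →* H) (hψ : Function.Injective ψ) {x : S}
    (hx : x ∉ Subgroup.center S) : (QuotientGroup.mk' (Subgroup.center H)) (ψ x) ≠ 1 := by
  intro h
  rw [QuotientGroup.mk'_apply, QuotientGroup.eq_one_iff, Subgroup.mem_center_iff] at h
  exact hx (Subgroup.mem_center_iff.mpr fun y => hψ (by rw [map_mul, map_mul, h]))

/-- `w` is a law in `G`. -/
def IsLaw (w : FreeGroup ℕ) (G : Type*) [Group G] : Prop := ∀ f : ℕ → G, FreeGroup.lift f w = 1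

theorem lift_comp {S H : Type*} [Group S] [Group H] (ψ : S →* H) (f : ℕ → S) (w : FreeGroup ℕ) :
    FreeGroup.lift (fun i => ψ (f i)) w = ψ (FreeGroup.lift f w) := by
  suffices h : FreeGroup.lift (fun i => ψ (f i)) = ψ.comp (FreeGroup.lift f) from
    DFunLike.congr_fun h w
  exact FreeGroup.ext_hom _ _ fun i => by simp

theorem not_law_of_quot {S H G : Type*} [Group S] [Group H] [Group G] {w : FreeGroup ℕ} {f : ℕ → S}
    (hf : FreeGroup.lift f w ∉ Subgroup.center S) (ψ : S →* H) (hψ : Function.Injective ψ)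
    (e : G ≃* H ⧸ Subgroup.center H) : ¬ IsLaw w G := fun h => by
  have h1 := h fun i => (e.symm.toMonoidHom.comp ((QuotientGroup.mk' _).comp ψ)) (f i)
  rw [lift_comp] at h1
  refine mk_ne_one ψ hψ hf ?_
  exact e.symm.injective (by rw [map_one]; exact h1)

theorem not_law_of_quot_commutator {S O G : Type*} [Group S] [Group O] [Group G]
    (hS : commutator S = ⊤) {w : FreeGroup ℕ} {f : ℕ → S}
    (hf : FreeGroup.lift f w ∉ Subgroup.center S) (ψ : S →* O) (hψ : Function.Injective ψ)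
    (e : G ≃* (commutator O) ⧸ Subgroup.center (commutator O)) : ¬ IsLaw w G := by
  have hmem : ∀ x, ψ x ∈ commutator O := fun x => by
    have h1 : ψ x ∈ (commutator S).map ψ := ⟨x, by rw [hS]; trivial, rfl⟩
    rw [commutator_def, Subgroup.map_commutator] at h1
    exact Subgroup.commutator_mono le_top le_top h1
  exact not_law_of_quot hf (ψ.codRestrict _ hmem)
    (fun a b h => hψ (congrArg Subtype.val h)) e

/-! ### Embeddings -/

section Embed

variable {F : Type*} [Field F]

/-- Two-by-two matrices in the upper left corner. -/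
noncomputable def cornerHom (n : ℕ) (hn : 2 ≤ n) :
    Matrix (Fin 2) (Fin 2) F →* Matrix (Fin n) (Fin n) F where
  toFun M := (Matrix.fromBlocks M 0 0 1).submatrix
    (finSumFinEquiv.trans (finCongr (show 2 + (n - 2) = n by omega))).symm
    (finSumFinEquiv.trans (finCongr (show 2 + (n - 2) = n by omega))).symm
  map_one' := by rw [Matrix.fromBlocks_one, Matrix.submatrix_one_equiv]
  map_mul' M N := by rw [Matrix.submatrix_mul_equiv, Matrix.fromBlocks_multiply]; simp

theorem cornerHom_injective (n : ℕ) (hn : 2 ≤ n) : Function.Injective (cornerHom (F := F) n hn) := by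
  intro M N h
  ext i j
  have := congrFun (congrFun h ((finSumFinEquiv.trans (finCongr (show 2 + (n - 2) = n by omega)))
    (Sum.inl i))) ((finSumFinEquiv.trans (finCongr (show 2 + (n - 2) = n by omega))) (Sum.inl j))
  simpa [cornerHom] using this

theorem cornerHom_det (n : ℕ) (hn : 2 ≤ n) (M : Matrix (Fin 2) (Fin 2) F) :
    (cornerHom n hn M).det = M.det := by
  show ((Matrix.fromBlocks M 0 0 1).submatrix _ _).det = _
  rw [Matrix.det_submatrix_equiv_self, Matrix.det_fromBlocks_zero₂₁, Matrix.det_one, mul_one]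

/-- The corner embedding into `SL_n`. -/
noncomputable def cornerSL (n : ℕ) (hn : 2 ≤ n) :
    Matrix.SpecialLinearGroup (Fin 2) F →* Matrix.SpecialLinearGroup (Fin n) F where
  toFun g := ⟨cornerHom n hn g.1, by rw [cornerHom_det]; exact g.2⟩
  map_one' := Subtype.ext (map_one (cornerHom n hn))
  map_mul' a b := Subtype.ext (map_mul (cornerHom n hn) a.1 b.1)

theorem cornerSL_injective (n : ℕ) (hn : 2 ≤ n) : Function.Injective (cornerSL (F := F) n hn) :=
  fun _ _ h => Subtype.ext (cornerHom_injective n hn (congrArg Subtype.val h))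

/-- Permutation matrices. -/
noncomputable def permMat (n : ℕ) : Equiv.Perm (Fin n) →* Matrix (Fin n) (Fin n) F where
  toFun σ := σ⁻¹.permMatrix F
  map_one' := by simp
  map_mul' a b := by rw [_root_.mul_inv_rev, Matrix.permMatrix_mul]

theorem permMat_injective (n : ℕ) : Function.Injective (permMat (F := F) n) := by
  classical
  intro σ τ h
  refine inv_injective (Equiv.ext fun i => ?_)
  by_contra hne
  have := congrFun (congrFun h i) (σ⁻¹ i)
  simp only [permMat, MonoidHom.coe_mk, OneHom.coe_mk, Equiv.Perm.permMatrix, PEquiv.toMatrix_apply,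
    Equiv.toPEquiv_apply, Option.mem_def, Option.some.injEq] at this
  rw [if_pos trivial, if_neg (Ne.symm hne)] at this
  exact one_ne_zero this

theorem permMat_det (n : ℕ) (σ : Equiv.Perm (Fin n)) (h : Equiv.Perm.sign σ = 1) :
    (permMat (F := F) n σ).det = 1 := by
  show (σ⁻¹.permMatrix F).det = 1
  rw [Matrix.det_permutation]; simp [h]

/-- Even permutations in `SL_n`. -/
noncomputable def permSL (n : ℕ) :
    alternatingGroup (Fin n) →* Matrix.SpecialLinearGroup (Fin n) F where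
  toFun σ := ⟨permMat n σ.1, permMat_det n σ.1 (Equiv.Perm.mem_alternatingGroup.mp σ.2)⟩
  map_one' := Subtype.ext (map_one (permMat n))
  map_mul' a b := Subtype.ext (map_mul (permMat n) a.1 b.1)

theorem permSL_injective (n : ℕ) : Function.Injective (permSL (F := F) n) :=
  fun _ _ h => Subtype.ext (permMat_injective n (congrArg Subtype.val h))

/-- A representation and its contragredient. -/
noncomputable def doubleHom {S : Type*} [Group S] {m : ℕ} (φ : S →* Matrix (Fin m) (Fin m) F) :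
    S →* Matrix (Fin m ⊕ Fin m) (Fin m ⊕ Fin m) F where
  toFun s := Matrix.fromBlocks (φ s) 0 0 (φ s⁻¹)ᵀ
  map_one' := by rw [inv_one, map_one, Matrix.transpose_one, Matrix.fromBlocks_one]
  map_mul' a b := by
    rw [_root_.mul_inv_rev, map_mul, map_mul, Matrix.transpose_mul, Matrix.fromBlocks_multiply]; simp

theorem doubleHom_injective {S : Type*} [Group S] {m : ℕ} {φ : S →* Matrix (Fin m) (Fin m) F}
    (hφ : Function.Injective φ) : Function.Injective (doubleHom φ) := fun a b h => by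
  refine hφ (Matrix.ext fun i j => ?_)
  simpa [doubleHom] using congrFun (congrFun h (Sum.inl i)) (Sum.inl j)

theorem doubleHom_symplectic {S : Type*} [Group S] {m : ℕ} (φ : S →* Matrix (Fin m) (Fin m) F)
    (s : S) : doubleHom φ s ∈ Matrix.symplecticGroup (Fin m) F := by
  rw [SymplecticGroup.mem_iff]
  show Matrix.fromBlocks (φ s) 0 0 (φ s⁻¹)ᵀ * _ * (Matrix.fromBlocks (φ s) 0 0 (φ s⁻¹)ᵀ)ᵀ = _
  rw [Matrix.fromBlocks_transpose, Matrix.J, Matrix.fromBlocks_multiply, Matrix.fromBlocks_multiply]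
  simp [← map_mul, ← Matrix.transpose_mul]

/-- The contragredient pair in `Sp`. -/
noncomputable def symplHom {S : Type*} [Group S] {m : ℕ} (φ : S →* Matrix (Fin m) (Fin m) F) :
    S →* Matrix.symplecticGroup (Fin m) F :=
  (doubleHom φ).codRestrict _ (doubleHom_symplectic φ)

theorem doubleHom_form {S : Type*} [Group S] {m : ℕ} (φ : S →* Matrix (Fin m) (Fin m) F) (s : S)
    (v : Fin m ⊕ Fin m → F) :
    ∑ i, (doubleHom φ s *ᵥ v) (Sum.inl i) * (doubleHom φ s *ᵥ v) (Sum.inr i) =
      ∑ i, v (Sum.inl i) * v (Sum.inr i) := by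
  show ∑ i, (Matrix.fromBlocks (φ s) 0 0 (φ s⁻¹)ᵀ *ᵥ v) (Sum.inl i) *
    (Matrix.fromBlocks (φ s) 0 0 (φ s⁻¹)ᵀ *ᵥ v) (Sum.inr i) = _
  simp only [Matrix.fromBlocks_mulVec, Sum.elim_inl, Sum.elim_inr, Matrix.zero_mulVec, add_zero,
    zero_add]
  change (φ s *ᵥ (v ∘ Sum.inl)) ⬝ᵥ ((φ s⁻¹)ᵀ *ᵥ (v ∘ Sum.inr)) = (v ∘ Sum.inl) ⬝ᵥ (v ∘ Sum.inr)
  rw [Matrix.mulVec_transpose, dotProduct_comm, ← Matrix.dotProduct_mulVec, Matrix.mulVec_mulVec,
    ← map_mul, inv_mul_cancel, map_one, Matrix.one_mulVec, dotProduct_comm]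

/-- A monoid map into matrices as a map into an isometry group. -/
noncomputable def toIsometry {S : Type*} [Group S] {ι : Type} [Fintype ι] [DecidableEq ι]
    (Q : (ι → F) → F) (φ : S →* Matrix ι ι F) (h : ∀ s v, Q (φ s *ᵥ v) = Q v) :
    S →* Cfsg.isometryGroup F Q :=
  φ.toHomUnits.codRestrict _ fun s u _ => h s u

theorem toIsometry_injective {S : Type*} [Group S] {ι : Type} [Fintype ι] [DecidableEq ι]
    {Q : (ι → F) → F} {φ : S →* Matrix ι ι F} {h : ∀ s v, Q (φ s *ᵥ v) = Q v}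
    (hφ : Function.Injective φ) : Function.Injective (toIsometry Q φ h) :=
  fun a b e => hφ (congrArg (fun z : Cfsg.isometryGroup F Q => ((z : GL ι F) : Matrix ι ι F)) e)

/-- Adding a fixed summand on the left. -/
def padLeft {κ ι : Type*} [Fintype κ] [DecidableEq κ] [Fintype ι] [DecidableEq ι] :
    Matrix ι ι F →* Matrix (κ ⊕ ι) (κ ⊕ ι) F where
  toFun M := Matrix.fromBlocks 1 0 0 M
  map_one' := Matrix.fromBlocks_one
  map_mul' M N := by simp [Matrix.fromBlocks_multiply]

/-- Adding a fixed summand on the right. -/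
def padRight {κ ι : Type*} [Fintype κ] [DecidableEq κ] [Fintype ι] [DecidableEq ι] :
    Matrix ι ι F →* Matrix (ι ⊕ κ) (ι ⊕ κ) F where
  toFun M := Matrix.fromBlocks M 0 0 1
  map_one' := Matrix.fromBlocks_one
  map_mul' M N := by simp [Matrix.fromBlocks_multiply]

theorem quadPlus_inv {S : Type*} [Group S] {m : ℕ} (φ : S →* Matrix (Fin m) (Fin m) F) (s : S)
    (v : Fin m ⊕ Fin m → F) : Cfsg.quadFormPlus m F (doubleHom φ s *ᵥ v) = Cfsg.quadFormPlus m F v :=
  doubleHom_form φ s v

theorem quadOdd_inv {S : Type*} [Group S] {m : ℕ} (φ : S →* Matrix (Fin m) (Fin m) F) (s : S)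
    (v : Unit ⊕ (Fin m ⊕ Fin m) → F) :
    Cfsg.quadFormOdd m F ((padLeft.comp (doubleHom φ)) s *ᵥ v) = Cfsg.quadFormOdd m F v := by
  show Cfsg.quadFormOdd m F (Matrix.fromBlocks 1 0 0 (doubleHom φ s) *ᵥ v) = _
  simp only [Cfsg.quadFormOdd, Matrix.fromBlocks_mulVec, Sum.elim_inl, Sum.elim_inr,
    Matrix.zero_mulVec, add_zero, zero_add, Matrix.one_mulVec, Function.comp_apply]
  rw [doubleHom_form φ s (v ∘ Sum.inr)]
  rfl

theorem quadMinus_inv {S : Type*} [Group S] {m : ℕ} (φ : S →* Matrix (Fin m) (Fin m) F) (a b : F)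
    (s : S) (v : (Fin m ⊕ Fin m) ⊕ Fin 2 → F) :
    Cfsg.quadFormMinus m F a b ((padRight.comp (doubleHom φ)) s *ᵥ v) =
      Cfsg.quadFormMinus m F a b v := by
  show Cfsg.quadFormMinus m F a b (Matrix.fromBlocks (doubleHom φ s) 0 0 1 *ᵥ v) = _
  simp only [Cfsg.quadFormMinus, Matrix.fromBlocks_mulVec, Sum.elim_inl, Sum.elim_inr,
    Matrix.zero_mulVec, add_zero, zero_add, Matrix.one_mulVec, Function.comp_apply]
  rw [doubleHom_form φ s (v ∘ Sum.inl)]
  rfl

/-- The map into the isometry group of the odd form. -/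
noncomputable def oddHom {S : Type*} [Group S] {m : ℕ} (φ : S →* Matrix (Fin m) (Fin m) F) :
    S →* Cfsg.isometryGroup F (Cfsg.quadFormOdd m F) :=
  toIsometry _ (padLeft.comp (doubleHom φ)) (quadOdd_inv φ)

theorem oddHom_injective {S : Type*} [Group S] {m : ℕ} {φ : S →* Matrix (Fin m) (Fin m) F}
    (hφ : Function.Injective φ) : Function.Injective (oddHom φ) := by
  refine toIsometry_injective fun a b h => doubleHom_injective hφ ?_
  exact (Matrix.fromBlocks_inj.mp h).2.2.2

/-- The map into the isometry group of the plus form. -/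
noncomputable def plusHom {S : Type*} [Group S] {m : ℕ} (φ : S →* Matrix (Fin m) (Fin m) F) :
    S →* Cfsg.isometryGroup F (Cfsg.quadFormPlus m F) :=
  toIsometry _ (doubleHom φ) (quadPlus_inv φ)

/-- The map into the isometry group of the minus form. -/
noncomputable def minusHom {S : Type*} [Group S] {m : ℕ} (φ : S →* Matrix (Fin m) (Fin m) F)
    (a b : F) : S →* Cfsg.isometryGroup F (Cfsg.quadFormMinus m F a b) :=
  toIsometry _ (padRight.comp (doubleHom φ)) (quadMinus_inv φ a b)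

theorem minusHom_injective {S : Type*} [Group S] {m : ℕ} {φ : S →* Matrix (Fin m) (Fin m) F}
    (hφ : Function.Injective φ) (a b : F) : Function.Injective (minusHom φ a b) := by
  refine toIsometry_injective fun x y h => doubleHom_injective hφ ?_
  exact (Matrix.fromBlocks_inj.mp h).1

theorem permSL_mem_SU (n q : ℕ) (σ : alternatingGroup (Fin n)) :
    permSL (F := F) n σ ∈ Cfsg.SU n F q := by
  intro u v
  show Cfsg.hermForm n F q ((σ.1⁻¹.permMatrix F) *ᵥ u) ((σ.1⁻¹.permMatrix F) *ᵥ v) = _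
  simp only [Cfsg.hermForm, Matrix.permMatrix_mulVec, Function.comp_apply]
  exact Equiv.sum_comp σ.1⁻¹ (fun i => u i * v i ^ q)

end Embed

/-! ### A copy of `SL_2` over the fixed field inside `SU_n` -/

section Unitary

variable {F : Type*} [Field F] [Fintype F] {p a : ℕ} [Fact p.Prime] [CharP F p]

/-- The fixed field of the `q`-th power map. -/
noncomputable def fixedField (F : Type*) [Field F] (p a : ℕ) [Fact p.Prime] [CharP F p] : Subfield F :=
  RingHom.eqLocusField (iterateFrobenius F p a) (RingHom.id F)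

theorem mem_fixedField {x : F} : x ∈ fixedField F p a ↔ x ^ p ^ a = x := by
  show iterateFrobenius F p a x = x ↔ _
  rw [iterateFrobenius_def]

theorem card_fixedField (hF : Fintype.card F = (p ^ a) ^ 2) :
    p ^ a - 1 ≤ Nat.card (fixedField F p a) := by
  classical
  set q := p ^ a
  have hq : 0 < q := pow_pos (Fact.out : p.Prime).pos a
  let f : F → fixedField F p a := fun x => ⟨x ^ (q + 1), mem_fixedField.mpr (by
    have hc := FiniteField.pow_card x
    rw [hF] at hc
    show (x ^ (q + 1)) ^ q = x ^ (q + 1)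
    rw [← pow_mul, show (q + 1) * q = q ^ 2 + q by ring, pow_add, hc, pow_succ']
    )⟩
  letI := Fintype.ofFinite (fixedField F p a)
  have hfib : ∀ b ∈ (Finset.univ : Finset (fixedField F p a)),
      ((Finset.univ : Finset F).filter fun x => f x = b).card ≤ q + 1 := by
    intro b _
    refine (Finset.card_le_card (t := (Polynomial.nthRoots (q + 1) (b : F)).toFinset) ?_).trans
      ((Multiset.toFinset_card_le _).trans (Polynomial.card_nthRoots _ _))
    intro x hx
    rw [Finset.mem_filter] at hx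
    rw [Multiset.mem_toFinset, Polynomial.mem_nthRoots (Nat.succ_pos q)]
    exact congrArg Subtype.val hx.2
  have h := Finset.card_le_mul_card_image_of_maps_to (f := f) (s := Finset.univ) (t := Finset.univ)
    (fun _ _ => Finset.mem_univ _) (q + 1) hfib
  rw [Finset.card_univ, Finset.card_univ, hF, ← Nat.card_eq_fintype_card (α := fixedField F p a)] at h
  by_contra hlt
  push Not at hlt
  have h2 : (q + 1) * Nat.card (fixedField F p a) ≤ (q + 1) * (q - 2) := Nat.mul_le_mul_left _ (by omega)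
  have h3 : (q + 1) * (q - 2) < q ^ 2 := by
    rcases Nat.lt_or_ge q 2 with h2q | h2q
    · rw [show q - 2 = 0 by omega, mul_zero]; positivity
    · obtain ⟨k, hk⟩ : ∃ k, q = k + 2 := ⟨q - 2, by omega⟩
      rw [hk]; simp only [Nat.add_sub_cancel]; nlinarith
  omega

theorem exists_unitary_root (hF : Fintype.card F = (p ^ a) ^ 2) :
    ∃ c z t : F, c ^ (p ^ a + 1) = -1 ∧ z ^ (p ^ a + 1) = 1 ∧ z ≠ 1 ∧ t ^ p ^ a = -t ∧ t ≠ 0 := by
  set q := p ^ a
  have hq2 : 2 ≤ q := by
    have h1 : 1 < q ^ 2 := hF ▸ Fintype.one_lt_card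
    by_contra h
    interval_cases q <;> simp_all
  obtain ⟨g, hg⟩ := IsCyclic.exists_generator (α := Fˣ)
  have hord : orderOf g = q ^ 2 - 1 := by
    rw [orderOf_eq_card_of_forall_mem_zpowers hg, Nat.card_units, Nat.card_eq_fintype_card, hF]
  have hsq : q ^ 2 - 1 = (q - 1) * (q + 1) := by
    obtain ⟨k, hk⟩ : ∃ k, q = k + 1 := ⟨q - 1, by omega⟩
    rw [hk]; simp only [Nat.add_sub_cancel]; ring_nf; omega
  have hz : ((g ^ (q - 1) : Fˣ) : F) ^ (q + 1) = 1 ∧ ((g ^ (q - 1) : Fˣ) : F) ≠ 1 := by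
    refine ⟨?_, fun h => ?_⟩
    · rw [← Units.val_pow_eq_pow_val, ← pow_mul, ← hsq, ← hord, pow_orderOf_eq_one, Units.val_one]
    · have hdvd := orderOf_dvd_of_pow_eq_one (Units.val_eq_one.mp h)
      rw [hord, hsq] at hdvd
      have := Nat.le_of_dvd (by omega) hdvd
      nlinarith [show 1 ≤ q - 1 by omega]
  by_cases h2 : p = 2
  · subst h2
    haveI : CharP F 2 := inferInstance
    exact ⟨1, _, 1, by simp [CharTwo.neg_eq], hz.1, hz.2, by simp [CharTwo.neg_eq], one_ne_zero⟩
  · have hodd : q % 2 = 1 := Nat.odd_iff.mp (((Fact.out : p.Prime).odd_of_ne_two h2).pow)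
    have hneg : ((g ^ ((q ^ 2 - 1) / 2) : Fˣ) : F) = -1 := by
      have hdvd2 : 2 ∣ q ^ 2 - 1 := by rw [hsq]; exact Dvd.dvd.mul_left (by omega) _
      have hsq1 : ((g ^ ((q ^ 2 - 1) / 2) : Fˣ) : F) ^ 2 = 1 := by
        rw [← Units.val_pow_eq_pow_val, ← pow_mul, Nat.div_mul_cancel hdvd2, ← hord,
          pow_orderOf_eq_one, Units.val_one]
      refine (sq_eq_one_iff.mp hsq1).resolve_left fun h => ?_
      have hdvd := orderOf_dvd_of_pow_eq_one (Units.val_eq_one.mp h)
      rw [hord] at hdvd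
      have h4 : 3 ≤ q ^ 2 - 1 := by
        have : 2 ^ 2 ≤ q ^ 2 := Nat.pow_le_pow_left hq2 2
        omega
      have := Nat.le_of_dvd (by omega) hdvd
      omega
    refine ⟨((g ^ ((q - 1) / 2) : Fˣ) : F), _, ((g ^ ((q + 1) / 2) : Fˣ) : F), ?_, hz.1, hz.2, ?_,
      Units.ne_zero _⟩
    · rw [← hneg, ← Units.val_pow_eq_pow_val, ← pow_mul, hsq]
      congr 2
      obtain ⟨k, hk⟩ : ∃ k, q = 2 * k + 1 := ⟨q / 2, by omega⟩
      rw [hk, show (2 * k + 1 - 1) / 2 = k by omega, show 2 * k + 1 - 1 = 2 * k by omega]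
      rw [mul_assoc 2 k, Nat.mul_div_cancel_left _ (by norm_num)]
    · rw [eq_neg_iff_add_eq_zero]
      have hq1 : ((g ^ ((q + 1) / 2) : Fˣ) : F) ^ q =
          ((g ^ ((q + 1) / 2) : Fˣ) : F) ^ (q - 1) * ((g ^ ((q + 1) / 2) : Fˣ) : F) := by
        rw [← pow_succ, Nat.sub_add_cancel (by omega)]
      have hq2' : ((g ^ ((q + 1) / 2) : Fˣ) : F) ^ (q - 1) = -1 := by
        rw [← hneg, ← Units.val_pow_eq_pow_val, ← pow_mul, hsq]
        congr 2
        obtain ⟨k, hk⟩ : ∃ k, q = 2 * k + 1 := ⟨q / 2, by omega⟩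
        rw [hk, show (2 * k + 1 + 1) / 2 = k + 1 by omega, show 2 * k + 1 - 1 = 2 * k by omega,
          show 2 * k * (2 * k + 1 + 1) = (k + 1) * (2 * k) * 2 by ring, Nat.mul_div_cancel _ (by norm_num)]
      rw [hq1, hq2']; ring

/-- The form in the isotropic basis. -/
def pairForm (q : ℕ) (τ : F) (u v : Fin 2 → F) : F := τ * (u 0 * v 1 ^ q - u 1 * v 0 ^ q)

theorem exists_isotropic_basis (hF : Fintype.card F = (p ^ a) ^ 2) :
    ∃ (P : Matrix (Fin 2) (Fin 2) F) (τ : F), P.det ≠ 0 ∧ ∀ u v : Fin 2 → F,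
      ∑ i, (P *ᵥ u) i * (P *ᵥ v) i ^ p ^ a = pairForm (p ^ a) τ u v := by
  obtain ⟨c, z, t, hc, hz, hz1, ht, ht0⟩ := exists_unitary_root (F := F) hF
  set q := p ^ a
  have hq : q ≠ 0 := (pow_pos (Fact.out : p.Prime).pos a).ne'
  have hc0 : c ≠ 0 := fun h => by simp [h] at hc
  have hqq : ∀ x : F, (x ^ q) ^ q = x := fun x => by
    rw [← pow_mul, ← pow_two, ← hF, FiniteField.pow_card]
  have hadd : ∀ x y : F, (x + y) ^ q = x ^ q + y ^ q := fun x y => add_pow_char_pow ..
  obtain ⟨d, hd⟩ : ∃ d, d = c * z := ⟨_, rfl⟩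
  have hdd : d * d ^ q = -1 := by rw [← pow_succ', hd, mul_pow, hc, hz, mul_one]
  have hcc : c * c ^ q = -1 := by rw [← pow_succ', hc]
  obtain ⟨δ, hδ⟩ : ∃ δ, δ = 1 + c * d ^ q := ⟨_, rfl⟩
  have hδ0 : δ ≠ 0 := by
    intro h
    rw [hδ] at h
    have h1 : c * d ^ q = -1 := eq_neg_of_add_eq_zero_right h
    have hdq : d ^ q ≠ 0 := fun h0 => by simp [h0] at hdd
    have : c = d := mul_right_cancel₀ hdq (h1.trans hdd.symm)
    exact hz1 (mul_left_cancel₀ hc0 (by rw [mul_one, ← hd, ← this]))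
  refine ⟨!![1, δ * t; c, δ * t * d], (δ * t) ^ q * δ, ?_, fun u v => ?_⟩
  · rw [Matrix.det_fin_two_of]
    intro h
    have : δ * t * (d - c) = 0 := by linear_combination h
    rcases mul_eq_zero.mp this with h | h
    · exact mul_ne_zero hδ0 ht0 h
    · exact hz1 (mul_left_cancel₀ hc0 (by rw [mul_one, ← hd, sub_eq_zero.mp h]))
  · simp only [pairForm, Fin.sum_univ_two, Matrix.mulVec, dotProduct, Matrix.of_apply,
      Matrix.cons_val', Matrix.cons_val_zero, Matrix.cons_val_one, Matrix.cons_val_fin_one,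
      one_mul, hadd, mul_pow]
    have e1 : (1 : F) + c * c ^ q = 0 := by rw [hcc]; ring
    have e2 : (1 : F) + d * d ^ q = 0 := by rw [hdd]; ring
    have e3 : δ ^ q = 1 + c ^ q * d := by
      rw [hδ, hadd, one_pow, mul_pow, hqq]
    try rw [mul_pow]
    linear_combination (u 0 * v 0 ^ q) * e1 + (δ * δ ^ q * t * t ^ q * (u 1 * v 1 ^ q)) * e2 +
      (-(δ ^ q * t ^ q * u 0 * v 1 ^ q)) * hδ +
      (-(δ * t * u 1 * v 0 ^ q)) * e3 + (δ * δ ^ q * u 1 * v 0 ^ q) * ht

theorem exists_SL2_to_SU (hF : Fintype.card F = (p ^ a) ^ 2) (n : ℕ) (hn : 2 ≤ n) :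
    ∃ ψ : Matrix.SpecialLinearGroup (Fin 2) (fixedField F p a) →* Cfsg.SU n F (p ^ a),
      Function.Injective ψ := by
  obtain ⟨P, τ, hP, hform⟩ := exists_isotropic_basis (F := F) (p := p) (a := a) hF
  let Pu : GL (Fin 2) F := Matrix.GeneralLinearGroup.mkOfDetNeZero P hP
  let ι := Matrix.SpecialLinearGroup.map (n := Fin 2) (fixedField F p a).subtype
  let κ : Matrix.SpecialLinearGroup (Fin 2) (fixedField F p a) →* Matrix (Fin 2) (Fin 2) F :=
    (Units.coeHom _).comp ((MulAut.conj Pu).toMonoidHom.comp (Matrix.SpecialLinearGroup.toGL.comp ι))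
  have hκ : Function.Injective κ := by
    intro x y h
    have h1 := Units.ext h
    have h2 := (MulAut.conj Pu).injective h1
    apply Subtype.ext
    ext i j
    have h3 : (ι x).1 = (ι y).1 := congrArg Units.val h2
    exact congrFun (congrFun h3 i) j
  have hdet : ∀ x, (κ x).det = 1 := fun x => by
    show (((Pu * (Matrix.SpecialLinearGroup.toGL (ι x)) * Pu⁻¹ : GL (Fin 2) F)) : Matrix (Fin 2) (Fin 2) F).det = 1
    rw [Units.val_mul, Units.val_mul, Matrix.det_units_conj]
    exact (ι x).2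
  have hpres : ∀ x u v, ∑ i, (κ x *ᵥ u) i * (κ x *ᵥ v) i ^ p ^ a = ∑ i, u i * v i ^ p ^ a := by
    intro x u v
    obtain ⟨u', rfl⟩ : ∃ u', P *ᵥ u' = u := ⟨(Pu⁻¹ : GL (Fin 2) F).1 *ᵥ u, by
      rw [Matrix.mulVec_mulVec, show P * (Pu⁻¹ : GL (Fin 2) F).1 = 1 from Pu.mul_inv, Matrix.one_mulVec]⟩
    obtain ⟨v', rfl⟩ : ∃ v', P *ᵥ v' = v := ⟨(Pu⁻¹ : GL (Fin 2) F).1 *ᵥ v, by
      rw [Matrix.mulVec_mulVec, show P * (Pu⁻¹ : GL (Fin 2) F).1 = 1 from Pu.mul_inv, Matrix.one_mulVec]⟩
    have e : ∀ w, κ x *ᵥ (P *ᵥ w) = P *ᵥ ((ι x).1 *ᵥ w) := fun w => by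
      show (Pu.1 * (ι x).1 * (Pu⁻¹ : GL (Fin 2) F).1) *ᵥ (Pu.1 *ᵥ w) = Pu.1 *ᵥ _
      rw [Matrix.mulVec_mulVec, Matrix.mulVec_mulVec, mul_assoc, Units.inv_mul, mul_one]
    rw [e, e, hform, hform]
    have hfix : ∀ i j, ((ι x).1 i j) ^ p ^ a = (ι x).1 i j := fun i j => mem_fixedField.mp (x.1 i j).2
    have hd := (ι x).2
    rw [Matrix.det_fin_two] at hd
    have hadd : ∀ x y : F, (x + y) ^ p ^ a = x ^ p ^ a + y ^ p ^ a := fun x y => add_pow_char_pow ..
    simp only [pairForm, Matrix.mulVec, dotProduct, Fin.sum_univ_two, hadd, mul_pow, hfix]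
    linear_combination (τ * (u' 0 * v' 1 ^ p ^ a - u' 1 * v' 0 ^ p ^ a)) * hd
  let sl : Matrix.SpecialLinearGroup (Fin 2) (fixedField F p a) →* Matrix.SpecialLinearGroup (Fin 2) F :=
    { toFun := fun x => ⟨κ x, hdet x⟩
      map_one' := Subtype.ext (map_one κ)
      map_mul' := fun x y => Subtype.ext (map_mul κ x y) }
  refine ⟨((cornerSL n hn).comp sl).codRestrict _ (fun x u v => ?_), fun x y h => ?_⟩
  · show Cfsg.hermForm n F (p ^ a) (cornerHom n hn (κ x) *ᵥ u) (cornerHom n hn (κ x) *ᵥ v) = _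
    simp only [cornerHom, MonoidHom.coe_mk, OneHom.coe_mk, Cfsg.hermForm, Matrix.submatrix_mulVec_equiv,
      Function.comp_apply]
    set e := finSumFinEquiv.trans (finCongr (show 2 + (n - 2) = n by omega)) with he
    rw [← e.sum_comp, ← e.sum_comp (fun i => u i * v i ^ p ^ a)]
    simp only [Equiv.symm_apply_apply, Fintype.sum_sum_type, Matrix.fromBlocks_mulVec, Sum.elim_inl,
      Sum.elim_inr, Matrix.zero_mulVec, add_zero, zero_add, Matrix.one_mulVec, Function.comp_apply,
      Equiv.symm_symm]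
    rw [hpres]
    rfl
  · exact hκ (congrArg Subtype.val ((cornerSL_injective n hn) (congrArg Subtype.val h)))

end Unitary

/-! ### Large alternating groups -/

theorem exists_doubled {S : Type*} [Group S] [Finite S] {n : ℕ} (h : 2 * Nat.card S ≤ n) :
    ∃ ψ : S →* alternatingGroup (Fin n), Function.Injective ψ := by
  classical
  letI := Fintype.ofFinite S
  obtain ⟨e⟩ : Nonempty (S ⊕ S ↪ Fin n) := Function.Embedding.nonempty_of_card_le (by
    rw [Fintype.card_sum, Fintype.card_fin, ← Nat.card_eq_fintype_card]; omega)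
  let ρ := MulAction.toPermHom S S
  let θ : S →* Equiv.Perm (Fin n) := (Equiv.Perm.viaEmbeddingHom e).comp
    ((Equiv.Perm.sumCongrHom S S).comp (ρ.prod ρ))
  have hsign : ∀ s, θ s ∈ alternatingGroup (Fin n) := fun s => by
    rw [Equiv.Perm.mem_alternatingGroup]
    show Equiv.Perm.sign (Equiv.Perm.viaEmbedding (Equiv.Perm.sumCongr (ρ s) (ρ s)) e) = 1
    rw [Equiv.Perm.viaEmbedding, Equiv.Perm.sign_extendDomain, Equiv.Perm.sign_sumCongr,
      Int.units_mul_self]
  refine ⟨θ.codRestrict _ hsign, fun x y hxy => ?_⟩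
  have h1 : θ x = θ y := congrArg Subtype.val hxy
  have h2 := Equiv.Perm.sumCongrHom_injective (Equiv.Perm.viaEmbeddingHom_injective e h1)
  have h3 : ρ x 1 = ρ y 1 := by rw [show ρ x = ρ y from congrArg Prod.fst h2]
  simpa [ρ] using h3

theorem SL2_perfect {F : Type*} [Field F] [Finite F] (hF : 4 ≤ Nat.card F) :
    commutator (Matrix.SpecialLinearGroup (Fin 2) F) = ⊤ := by
  classical
  letI := Fintype.ofFinite F
  rw [Nat.card_eq_fintype_card] at hF
  obtain ⟨x, hx⟩ : ∃ x : F, x ∉ ({0, 1, -1} : Finset F) := by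
    by_contra h
    push Not at h
    have := Finset.card_le_card (s := Finset.univ) (t := {0, 1, -1}) fun k _ => h k
    have h3 : ({0, 1, -1} : Finset F).card ≤ 3 := Finset.card_le_three
    rw [Finset.card_univ] at this; omega
  simp only [Finset.mem_insert, Finset.mem_singleton, not_or] at hx
  exact Classical.SL_commutator_eq_top (Or.inr ⟨x, hx.1, fun h => by
    rcases sq_eq_one_iff.mp h with h | h
    · exact hx.2.1 h
    · exact hx.2.2 h⟩)

theorem exists_alternating (w : FreeGroup ℕ) (hw : w ≠ 1) :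
    ∃ (k : ℕ) (S : Type) (_ : Group S) (_ : Finite S) (f : ℕ → S), 5 ≤ k ∧ 2 * Nat.card S ≤ k ∧
      commutator S = ⊤ ∧ FreeGroup.lift f w ∉ Subgroup.center S := by
  obtain ⟨D, hD⟩ := exists_degree_bound.{0} w hw
  obtain ⟨p, hp1, hp⟩ := Nat.exists_infinite_primes (D + 5)
  haveI := Fact.mk hp
  obtain ⟨f, hf⟩ := hD (ZMod p) (by rw [Nat.card_zmod]; omega)
  exact ⟨2 * Nat.card (Matrix.SpecialLinearGroup (Fin 2) (ZMod p)) + 5,
    Matrix.SpecialLinearGroup (Fin 2) (ZMod p), inferInstance, inferInstance, f, by omega, by omega,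
    SL2_perfect (by rw [Nat.card_zmod]; omega), not_central_of_lower _ hf⟩

theorem alternating_not_law (w : FreeGroup ℕ) (hw : w ≠ 1) :
    ∃ N : ℕ, ∀ n : ℕ, N ≤ n → ¬ IsLaw w (alternatingGroup (Fin n)) := by
  obtain ⟨k, S, _, _, f, -, hk, -, hf⟩ := exists_alternating w hw
  refine ⟨k, fun n hn h => ?_⟩
  obtain ⟨ψ, hψ⟩ := exists_doubled (S := S) (le_trans hk hn)
  have := h fun i => ψ (f i)
  rw [lift_comp] at this
  rw [hψ (this.trans (map_one ψ).symm)] at hf
  exact hf (one_mem _)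

theorem psl2_not_law (w : FreeGroup ℕ) (hw : w ≠ 1) :
    ∃ N : ℕ, ∀ (F : Type*) [Field F] [Finite F], N ≤ Nat.card F →
      ¬ IsLaw w (Matrix.ProjectiveSpecialLinearGroup (Fin 2) F) := by
  obtain ⟨D, hD⟩ := exists_degree_bound w hw
  refine ⟨D + 1, fun F _ _ hF => ?_⟩
  obtain ⟨f, hf⟩ := hD F (by omega)
  exact not_law_of_quot (not_central_of_lower _ hf) (MonoidHom.id _) Function.injective_id
    (MulEquiv.refl _)

theorem card_le_of_injective_matrix {H : Type*} [Group H] {F : Type*} [Finite F] {ι : Type*}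
    [Fintype ι] (N : Subgroup H) (m : H → Matrix ι ι F) (hm : Function.Injective m) {B M : ℕ}
    (hB0 : 1 ≤ B) (hB : Nat.card F ≤ B) (hM : Fintype.card ι ≤ M) :
    Nat.card (H ⧸ N) ≤ B ^ (M * M) := by
  haveI : Finite (Matrix ι ι F) := inferInstanceAs (Finite (ι → ι → F))
  haveI : Finite H := Finite.of_injective m hm
  refine (Nat.card_le_card_of_surjective (QuotientGroup.mk : H → H ⧸ N) QuotientGroup.mk_surjective).trans
    ((Nat.card_le_card_of_injective m hm).trans ?_)
  rw [show Nat.card (Matrix ι ι F) = Nat.card (ι → ι → F) from rfl, Nat.card_fun, Nat.card_fun,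
    Nat.card_eq_fintype_card (α := ι), ← pow_mul]
  exact (Nat.pow_le_pow_left hB _).trans (Nat.pow_le_pow_right hB0 (Nat.mul_le_mul hM hM))

theorem classical_law_bounded (w : FreeGroup ℕ) (hw : w ≠ 1) :
    ∃ N : ℕ, ∀ (G : Type*) [Group G] [Finite G],
      (Cfsg.IsAlternating G ∨ Cfsg.IsPSL G ∨ Cfsg.IsPSp G ∨ Cfsg.IsPSU G ∨ Cfsg.IsPOmegaOdd G ∨
          Cfsg.IsPOmegaPlus G ∨ Cfsg.IsPOmegaMinus G) → IsLaw w G → Nat.card G ≤ N := by
  classical
  obtain ⟨k, S, _, _, f, hk5, hk, hS, hf⟩ := exists_alternating w hw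
  obtain ⟨D, hD⟩ := exists_degree_bound.{0} w hw
  set B := (D + 4) ^ 2 with hBdef
  set M := 2 * k + 10 with hMdef
  have hB0 : 1 ≤ B := Nat.one_le_pow _ _ (by omega)
  have hB1 : D + 4 ≤ B := Nat.le_self_pow (by norm_num) _
  refine ⟨max k.factorial (B ^ (M * M)), fun G _ _ hG hlaw => ?_⟩
  by_contra hbig
  push Not at hbig
  have hbigA : k.factorial < Nat.card G := lt_of_le_of_lt (le_max_left _ _) hbig
  have hbigM : B ^ (M * M) < Nat.card G := lt_of_le_of_lt (le_max_right _ _) hbig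
  -- a perfect source with an injective map into the matrices of degree `m`
  have src : ∀ (F : Type) [Field F] [Finite F] (m : ℕ), 2 ≤ m → (D + 4 ≤ Nat.card F ∨ k ≤ m) →
      ∃ (S' : Type) (_ : Group S') (f' : ℕ → S') (φ : S' →* Matrix (Fin m) (Fin m) F),
        Function.Injective φ ∧ commutator S' = ⊤ ∧ FreeGroup.lift f' w ∉ Subgroup.center S' ∧
          ∀ s, (φ s).det = 1 := by
    intro F _ _ m hm hor
    rcases hor with h | h
    · obtain ⟨g, hg⟩ := hD F (by omega)
      refine ⟨Matrix.SpecialLinearGroup (Fin 2) F, inferInstance, g,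
        ({ toFun := fun s => (cornerSL m hm s).1, map_one' := congrArg Subtype.val (map_one (cornerSL m hm)),
           map_mul' := fun a b => congrArg Subtype.val (map_mul (cornerSL m hm) a b) } :
          Matrix.SpecialLinearGroup (Fin 2) F →* _),
        fun a b h => cornerSL_injective m hm (Subtype.ext h), SL2_perfect (by omega),
        not_central_of_lower _ hg, fun s => (cornerSL m hm s).2⟩
    · obtain ⟨ψ, hψ⟩ := exists_doubled (S := S) (le_trans hk h)
      refine ⟨S, inferInstance, f,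
        ({ toFun := fun s => (permSL m (ψ s)).1,
           map_one' := congrArg Subtype.val (map_one ((permSL m).comp ψ)),
           map_mul' := fun a b => congrArg Subtype.val (map_mul ((permSL m).comp ψ) a b) } : S →* _),
        fun a b h => hψ (permSL_injective m (Subtype.ext h)), hS, hf, fun s => (permSL m (ψ s)).2⟩
  rcases hG with ⟨n, -, ⟨e⟩⟩ | ⟨F, _, _, n, hn, -, ⟨e⟩⟩ | ⟨F, _, _, m, hm, -, ⟨e⟩⟩ |
    ⟨F, _, _, n, q, hq, hn, -, ⟨e⟩⟩ | ⟨F, _, _, m, hm, -, ⟨e⟩⟩ | ⟨F, _, _, m, hm, ⟨e⟩⟩ |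
    ⟨F, _, _, m, a, b, hm, -, ⟨e⟩⟩
  · rcases Nat.lt_or_ge n k with h | h
    · refine absurd hbigA (not_lt.mpr ?_)
      rw [Nat.card_congr e.toEquiv]
      refine (Finite.card_subtype_le _).trans ?_
      rw [Nat.card_perm, Nat.card_fin]
      exact Nat.factorial_le h.le
    · obtain ⟨ψ, hψ⟩ := exists_doubled (S := S) (le_trans hk h)
      have h1 := hlaw fun i => (e.symm.toMonoidHom.comp ψ) (f i)
      rw [lift_comp] at h1
      have h2 : (e.symm.toMonoidHom.comp ψ) (FreeGroup.lift f w) = (e.symm.toMonoidHom.comp ψ) 1 := by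
        rw [h1, map_one]
      rw [hψ (e.symm.injective h2)] at hf
      exact hf (one_mem _)
  · by_cases hor : D + 4 ≤ Nat.card F ∨ k ≤ n
    · obtain ⟨S', _, f', φ, hφ, -, hf', hdet⟩ := src F n hn hor
      let ψ : S' →* Matrix.SpecialLinearGroup (Fin n) F :=
        { toFun := fun s => ⟨φ s, hdet s⟩, map_one' := Subtype.ext (map_one φ),
          map_mul' := fun a b => Subtype.ext (map_mul φ a b) }
      exact not_law_of_quot hf' ψ (fun a b h => hφ (congrArg Subtype.val h)) e hlaw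
    · push Not at hor
      refine absurd hbigM (not_lt.mpr ?_)
      rw [Nat.card_congr e.toEquiv]
      exact card_le_of_injective_matrix _ (fun g : Matrix.SpecialLinearGroup (Fin n) F => g.1)
        Subtype.val_injective hB0 (by omega) (by rw [Fintype.card_fin]; omega)
  · by_cases hor : D + 4 ≤ Nat.card F ∨ k ≤ m
    · obtain ⟨S', _, f', φ, hφ, -, hf', -⟩ := src F m hm hor
      exact not_law_of_quot hf' (symplHom φ)
        (fun a b h => doubleHom_injective hφ (congrArg Subtype.val h)) e hlaw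
    · push Not at hor
      refine absurd hbigM (not_lt.mpr ?_)
      rw [Nat.card_congr e.toEquiv]
      exact card_le_of_injective_matrix _ (fun g : Matrix.symplecticGroup (Fin m) F => g.1)
        Subtype.val_injective hB0 (by omega) (by rw [Fintype.card_sum, Fintype.card_fin]; omega)
  · obtain ⟨p, hchar⟩ := CharP.exists F
    obtain ⟨c, hp, hc⟩ := FiniteField.card F p
    haveI := Fact.mk hp
    obtain ⟨a, -, ha⟩ := (Nat.dvd_prime_pow hp).mp (show q ∣ p ^ (c : ℕ) from ⟨q, by rw [← hc, hq, pow_two]⟩)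
    subst ha
    by_cases h1 : k ≤ n
    · obtain ⟨ψ, hψ⟩ := exists_doubled (S := S) (le_trans hk h1)
      exact not_law_of_quot hf (((permSL n).comp ψ).codRestrict _ fun s => permSL_mem_SU n _ _)
        (fun x y h => hψ (permSL_injective n (congrArg Subtype.val h))) e hlaw
    by_cases h2 : D + 4 ≤ p ^ a
    · obtain ⟨g, hg⟩ := hD (fixedField F p a) (lt_of_lt_of_le (by omega) (card_fixedField hq))
      obtain ⟨ψ, hψ⟩ := exists_SL2_to_SU (F := F) (p := p) (a := a) hq n (by omega)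
      exact not_law_of_quot (not_central_of_lower _ hg) ψ hψ e hlaw
    · refine absurd hbigM (not_lt.mpr ?_)
      rw [Nat.card_congr e.toEquiv]
      exact card_le_of_injective_matrix _ (fun g : Cfsg.SU n F (p ^ a) => g.1.1)
        (fun x y h => Subtype.ext (Subtype.ext h)) hB0
        (by rw [Nat.card_eq_fintype_card, hq]; exact Nat.pow_le_pow_left (by omega) 2)
        (by rw [Fintype.card_fin]; omega)
  · by_cases hor : D + 4 ≤ Nat.card F ∨ k ≤ m
    · obtain ⟨S', _, f', φ, hφ, hS', hf', -⟩ := src F m (by omega) hor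
      exact not_law_of_quot_commutator hS' hf' (oddHom φ) (oddHom_injective hφ) e hlaw
    · push Not at hor
      refine absurd hbigM (not_lt.mpr ?_)
      rw [Nat.card_congr e.toEquiv]
      exact card_le_of_injective_matrix _ (fun g : Cfsg.Omega F (Cfsg.quadFormOdd m F) => g.1.1.1)
        (fun x y h => Subtype.ext (Subtype.ext (Units.ext h))) hB0 (by omega)
        (by simp only [Fintype.card_sum, Fintype.card_fin, Fintype.card_unit]; omega)
  · by_cases hor : D + 4 ≤ Nat.card F ∨ k ≤ m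
    · obtain ⟨S', _, f', φ, hφ, hS', hf', -⟩ := src F m (by omega) hor
      exact not_law_of_quot_commutator hS' hf' (plusHom φ)
        (toIsometry_injective (doubleHom_injective hφ)) e hlaw
    · push Not at hor
      refine absurd hbigM (not_lt.mpr ?_)
      rw [Nat.card_congr e.toEquiv]
      exact card_le_of_injective_matrix _ (fun g : Cfsg.Omega F (Cfsg.quadFormPlus m F) => g.1.1.1)
        (fun x y h => Subtype.ext (Subtype.ext (Units.ext h))) hB0 (by omega)
        (by simp only [Fintype.card_sum, Fintype.card_fin]; omega)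
  · by_cases hor : D + 4 ≤ Nat.card F ∨ k ≤ m - 1
    · obtain ⟨S', _, f', φ, hφ, hS', hf', -⟩ := src F (m - 1) (by omega) hor
      exact not_law_of_quot_commutator hS' hf' (minusHom φ a b) (minusHom_injective hφ a b) e hlaw
    · push Not at hor
      refine absurd hbigM (not_lt.mpr ?_)
      rw [Nat.card_congr e.toEquiv]
      exact card_le_of_injective_matrix _
        (fun g : Cfsg.Omega F (Cfsg.quadFormMinus (m - 1) F a b) => g.1.1.1)
        (fun x y h => Subtype.ext (Subtype.ext (Units.ext h))) hB0 (by omega)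
        (by simp only [Fintype.card_sum, Fintype.card_fin]; omega)

end Cfsg.Agent.Known
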