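import Cfsg.Prelude.Def_AxialAlgebras

/-!
Commuting Majorana involutions generate algebras of type 2A or 2B.
-/

set_option autoImplicit false

namespace Cfsg.Agent.Known.MajoranaCommute

open Cfsg.Axial

variable {V : Type*} [AddCommGroup V] [Module ℝ V] (mul : V →ₗ[ℝ] V →ₗ[ℝ] V)

theorem eigen_map (φ : V ≃ₗ[ℝ] V) (hφ : ∀ u v : V, φ (mul u v) = mul (φ u) (φ v)) (a : V) (c : ℝ) :
    eigen mul (φ a) c = (eigen mul a c).map (φ : V →ₗ[ℝ] V) := by
  ext w
  simp only [eigen, Submodule.mem_map, Module.End.mem_eigenspace_iff, LinearEquiv.coe_coe]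
  constructor
  · intro h
    refine ⟨φ.symm w, φ.injective ?_, φ.apply_symm_apply w⟩
    rw [hφ, φ.apply_symm_apply, h, map_smul, φ.apply_symm_apply]
  · rintro ⟨v, hv, rfl⟩
    rw [← hφ, hv, map_smul]

theorem eigenSum_map (φ : V ≃ₗ[ℝ] V) (hφ : ∀ u v : V, φ (mul u v) = mul (φ u) (φ v)) (a : V) (S : Set ℝ) :
    eigenSum mul (φ a) S = (eigenSum mul a S).map (φ : V →ₗ[ℝ] V) := by
  simp only [eigenSum, Submodule.map_iSup, eigen_map mul φ hφ]

variable (B : LinearMap.BilinForm ℝ V)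

theorem pair_map {μ φ : V ≃ₗ[ℝ] V} {a : V} (h : IsMajoranaPair mul B μ a)
    (hφ : ∀ u v : V, φ (mul u v) = mul (φ u) (φ v)) (hc : μ * φ = φ * μ) :
    IsMajoranaPair mul B μ (φ a) := by
  obtain ⟨h1, h2, ⟨⟨h3, h4, h5, h6⟩, h7⟩, h8, h9⟩ := h
  have hc' : ∀ v, μ (φ v) = φ (μ v) := fun v => LinearEquiv.congr_fun hc v
  refine ⟨h1, h2, ⟨⟨?_, ?_, ?_, ?_⟩, ?_⟩, ?_, ?_⟩
  · simpa using h3
  · rw [← hφ, h4]
  · rw [eigenSum_map mul φ hφ, h5, Submodule.map_top, LinearEquiv.range]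
  · intro c hcS d hd u hu v hv
    rw [eigen_map mul φ hφ] at hu hv
    obtain ⟨u, hu, rfl⟩ := hu
    obtain ⟨v, hv, rfl⟩ := hv
    rw [eigenSum_map mul φ hφ]
    exact ⟨_, h6 c hcS d hd u hu v hv, hφ u v⟩
  · rw [eigen_map mul φ hφ, h7, Submodule.map_span, Set.image_singleton]
    rfl
  · intro v hv
    rw [eigenSum_map mul φ hφ] at hv
    obtain ⟨v, hv, rfl⟩ := hv
    show μ (φ v) = φ v
    rw [hc', show μ v = v from h8 v hv]
  · intro v hv
    rw [eigen_map mul φ hφ] at hv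
    obtain ⟨v, hv, rfl⟩ := hv
    show μ (φ v) = -φ v
    rw [hc', show μ v = -v from h9 v hv, map_neg]

/-- The decomposition of a vector fixed by the Miyamoto involution. -/
theorem decompose {μ : V ≃ₗ[ℝ] V} {a w : V} (hsymm : ∀ u v : V, B u v = B v u)
    (hassoc : ∀ u v w : V, B u (mul v w) = B (mul u v) w)
    (h : IsMajoranaPair mul B μ a) (hn : B a a = 1) (hw : μ w = w) :
    ∃ u v : V, mul a u = 0 ∧ mul a v = (1 / 4 : ℝ) • v ∧ w = B a w • a + u + v ∧ B a u = 0 ∧ B a v = 0 := by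
  obtain ⟨-, -, ⟨⟨-, h4, h5, -⟩, h7⟩, h8, h9⟩ := h
  have hset : majoranaSpectrum = insert (1 / 32 : ℝ) ({1, 0, 1 / 4} : Set ℝ) := by
    ext x; simp [majoranaSpectrum]; tauto
  have hmem : w ∈ eigenSum mul a majoranaSpectrum := h5 ▸ Submodule.mem_top
  rw [hset, eigenSum, iSup_insert, Submodule.mem_sup] at hmem
  obtain ⟨y, hy, x, hx, hxy⟩ := hmem
  have hy' : μ y = -y := h9 y hy
  have hx' : μ x = x := h8 x hx
  rw [← hxy, map_add, hy', hx', add_left_inj] at hw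
  have hy0 : y = 0 := by
    have h2 : (2 : ℝ) • y = 0 := by linear_combination (norm := module) -hw
    exact (smul_eq_zero.mp h2).resolve_left (by norm_num)
  rw [hy0, zero_add] at hxy
  subst hxy
  rw [iSup_insert, iSup_insert, iSup_singleton, h7, Submodule.mem_sup] at hx
  obtain ⟨t, ht, z, hz, rfl⟩ := hx
  obtain ⟨l, rfl⟩ := Submodule.mem_span_singleton.1 ht
  obtain ⟨u, hu, v, hv, rfl⟩ := Submodule.mem_sup.1 hz
  rw [eigen, Module.End.mem_eigenspace_iff] at hu hv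
  rw [zero_smul] at hu
  have orth : ∀ (z : V) (c : ℝ), mul a z = c • z → c ≠ 1 → B a z = 0 := by
    intro z c hz hc
    have := hassoc a a z
    rw [h4, hz, map_smul, smul_eq_mul] at this
    have h0 : (c - 1) * B a z = 0 := by linear_combination this
    exact (mul_eq_zero.1 h0).resolve_left (sub_ne_zero.2 hc)
  have hu0 : B a u = 0 := orth u 0 (by rw [hu, zero_smul]) (by norm_num)
  have hv0 : B a v = 0 := orth v _ hv (by norm_num)
  refine ⟨u, v, hu, hv, ?_, hu0, hv0⟩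
  rw [map_add, map_add, map_smul, hn, hu0, hv0, smul_eq_mul, mul_one, add_zero, add_zero, add_assoc]

theorem two_A_or_B (hV : IsMajoranaAmbient mul B) (μ₀ μ₁ : V ≃ₗ[ℝ] V) (a₀ a₁ : V)
    (h₀ : IsMajoranaPair mul B μ₀ a₀) (h₁ : IsMajoranaPair mul B μ₁ a₁)
    (hu₀ : ∀ a : V, IsMajoranaPair mul B μ₀ a → a = a₀) (hu₁ : ∀ a : V, IsMajoranaPair mul B μ₁ a → a = a₁)
    (hn₀ : B a₀ a₀ = 1) (hn₁ : B a₁ a₁ = 1) (hc : μ₀ * μ₁ = μ₁ * μ₀) (hne : a₀ ≠ a₁) :
    (B a₀ a₁ = 0 ∧ mul a₀ a₁ = 0) ∨ (B a₀ a₁ = 1 / 8 ∧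
      mul (a₀ + a₁ - (8 : ℝ) • mul a₀ a₁) (a₀ + a₁ - (8 : ℝ) • mul a₀ a₁) = a₀ + a₁ - (8 : ℝ) • mul a₀ a₁ ∧
      mul a₀ (a₀ + a₁ - (8 : ℝ) • mul a₀ a₁) = (1 / 8 : ℝ) • (a₀ + (a₀ + a₁ - (8 : ℝ) • mul a₀ a₁) - a₁) ∧
      mul a₁ (a₀ + a₁ - (8 : ℝ) • mul a₀ a₁) = (1 / 8 : ℝ) • (a₁ + (a₀ + a₁ - (8 : ℝ) • mul a₀ a₁) - a₀)) := by
  obtain ⟨hcomm, hsymm, hpos, hassoc, -⟩ := hV
  have f0 : μ₀ a₁ = a₁ := hu₁ _ (pair_map mul B h₁ h₀.1 hc.symm)
  have f1 : μ₁ a₀ = a₀ := hu₀ _ (pair_map mul B h₀ h₁.1 hc)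
  obtain ⟨u, v, hu, hv, hw, hBu, hBv⟩ := decompose mul B hsymm hassoc h₀ hn₀ f0
  obtain ⟨u', v', hu', hv', hw', -, -⟩ := decompose mul B hsymm hassoc h₁ hn₁ f1
  have key : mul a₁ (mul a₁ a₀) = (1 / 4 : ℝ) • mul a₁ a₀ + ((3 / 4 : ℝ) * B a₁ a₀) • a₁ := by
    have e1 : mul a₁ a₀ = B a₁ a₀ • a₁ + (1 / 4 : ℝ) • v' := by
      conv_lhs => rw [hw']
      rw [map_add, map_add, map_smul, h₁.2.2.1.1.2.1, hu', hv', add_zero]
    rw [e1, map_add, map_smul, map_smul, h₁.2.2.1.1.2.1, hv']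
    module
  rw [hsymm a₁ a₀, hcomm a₁ a₀] at key
  set l := B a₀ a₁ with hl
  have idem : mul a₀ a₀ = a₀ := h₀.2.2.1.1.2.1
  have e01 : mul a₀ a₁ = l • a₀ + (1 / 4 : ℝ) • v := by
    conv_lhs => rw [hw]
    rw [map_add, map_add, map_smul, idem, hu, hv, add_zero]
  have hua : mul u a₀ = 0 := by rw [hcomm, hu]
  have hva : mul v a₀ = (1 / 4 : ℝ) • v := by rw [hcomm, hv]
  -- products of the components
  have fus := h₀.2.2.1.1.2.2.2
  have me : ∀ z c, mul a₀ z = c • z → z ∈ eigen mul a₀ c := fun z c h => Module.End.mem_eigenspace_iff.2 h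
  have huu : mul a₀ (mul u u) = 0 := by
    have := fus 0 (by simp [majoranaSpectrum]) 0 (by simp [majoranaSpectrum]) u (me u 0 (by rw [hu, zero_smul])) u (me u 0 (by rw [hu, zero_smul]))
    rw [show monsterLaw (1 / 4 : ℝ) (1 / 32) 0 0 = {0} by norm_num [monsterLaw], eigenSum, iSup_singleton, eigen,
      Module.End.mem_eigenspace_iff, zero_smul] at this
    exact this
  have huv : mul a₀ (mul u v) = (1 / 4 : ℝ) • mul u v := by
    have := fus 0 (by simp [majoranaSpectrum]) (1 / 4) (by simp [majoranaSpectrum]) u (me u 0 (by rw [hu, zero_smul])) v (me v _ hv)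
    rw [show monsterLaw (1 / 4 : ℝ) (1 / 32) 0 (1 / 4) = {1 / 4} by norm_num [monsterLaw], eigenSum, iSup_singleton,
      eigen, Module.End.mem_eigenspace_iff] at this
    exact this
  obtain ⟨k, z, hz, hvv⟩ : ∃ (k : ℝ) (z : V), mul a₀ z = 0 ∧ mul v v = k • a₀ + z := by
    have := fus (1 / 4) (by simp [majoranaSpectrum]) (1 / 4) (by simp [majoranaSpectrum]) v (me v _ hv) v (me v _ hv)
    rw [show monsterLaw (1 / 4 : ℝ) (1 / 32) (1 / 4) (1 / 4) = {1, 0} by norm_num [monsterLaw], eigenSum, iSup_insert,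
      iSup_singleton, h₀.2.2.1.2, Submodule.mem_sup] at this
    obtain ⟨t, ht, z, hz, e⟩ := this
    obtain ⟨k, rfl⟩ := Submodule.mem_span_singleton.1 ht
    rw [eigen, Module.End.mem_eigenspace_iff, zero_smul] at hz
    exact ⟨k, z, hz, e.symm⟩
  -- separation of the three components
  have sep : ∀ (x : ℝ) (y q : V), mul a₀ y = 0 → mul a₀ q = (1 / 4 : ℝ) • q → x • a₀ + y + q = 0 →
      x = 0 ∧ y = 0 ∧ q = 0 := by
    intro x y q hy hq h
    have h1 : x • a₀ + (1 / 4 : ℝ) • q = 0 := by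
      have := congrArg (mul a₀) h
      rwa [map_add, map_add, map_smul, idem, hy, hq, map_zero, add_zero] at this
    have h2 : x • a₀ + (1 / 16 : ℝ) • q = 0 := by
      have := congrArg (mul a₀) h1
      rw [map_add, map_smul, map_smul, idem, hq, map_zero, smul_smul] at this
      norm_num at this ⊢
      exact this
    have hq0 : q = 0 := by
      have h3 : (3 / 16 : ℝ) • q = 0 := by linear_combination (norm := module) h1 - h2
      exact (smul_eq_zero.mp h3).resolve_left (by norm_num)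
    rw [hq0, smul_zero, add_zero] at h1
    have hx0 : x = 0 := (smul_eq_zero.mp h1).resolve_right h₀.2.2.1.1.1
    refine ⟨hx0, ?_, hq0⟩
    rw [hx0, zero_smul, zero_add, hq0, add_zero] at h
    exact h
  have hvu : mul v u = mul u v := hcomm v u
  have sq : ∀ s : ℝ, mul (l • a₀ + u + s • v) (l • a₀ + u + s • v) =
      (l ^ 2 + s ^ 2 * k) • a₀ + (mul u u + (s ^ 2) • z) + ((s * l / 2) • v + (2 * s) • mul u v) := by
    intro s
    simp only [map_add, map_smul, LinearMap.add_apply, LinearMap.smul_apply, idem, hu, hv, hua, hva, hvu, hvv]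
    module
  have hsq := h₁.2.2.1.1.2.1
  have hw1 : a₁ = l • a₀ + u + (1 : ℝ) • v := by rw [one_smul]; exact hw
  rw [hw1, sq 1] at hsq
  obtain ⟨A1, A2, A3⟩ := sep (l ^ 2 + 1 ^ 2 * k - l) (mul u u + ((1 : ℝ) ^ 2) • z - u)
    (((1 * l / 2) • v + (2 * 1 : ℝ) • mul u v) - v)
    (by rw [map_sub, map_add, map_smul, huu, hz, hu]; simp)
    (by rw [map_sub, map_add, map_smul, map_smul, hv, huv]; module)
    (by linear_combination (norm := module) hsq)
  -- the symmetric condition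
  have hlhs : mul a₁ (mul a₀ a₁) = (l ^ 2 + k / 4) • a₀ + (1 / 4 : ℝ) • z + ((5 * l / 16) • v + (1 / 4 : ℝ) • mul u v) := by
    rw [e01, hw]
    simp only [map_add, map_smul, LinearMap.add_apply, LinearMap.smul_apply, idem, hu, hv, hua, hva, hvu, hvv]
    module
  rw [hlhs, e01, hw] at key
  obtain ⟨C1, C2, C3⟩ := sep (l ^ 2 + k / 4 - l / 4 - 3 / 4 * l * l) ((1 / 4 : ℝ) • z - (3 / 4 * l) • u)
    ((5 * l / 16) • v + (1 / 4 : ℝ) • mul u v - (1 / 16 : ℝ) • v - (3 / 4 * l) • v)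
    (by rw [map_sub, map_smul, map_smul, hz, hu]; simp)
    (by rw [map_sub, map_sub, map_add, map_smul, map_smul, map_smul, map_smul, hv, huv]; module)
    (by linear_combination (norm := module) key)
  have hlv : (1 / 16 - l / 2 : ℝ) • v = 0 := by linear_combination (norm := module) C3 - (1 / 8 : ℝ) • A3
  rcases smul_eq_zero.mp hlv with hl8 | hv0
  · right
    have hl8' : l = 1 / 8 := by linarith
    set a₂ := a₀ + a₁ - (8 : ℝ) • mul a₀ a₁ with ha2
    have h2 : a₂ = l • a₀ + u + (-1 : ℝ) • v := by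
      rw [ha2, e01, hw, hl8']; module
    refine ⟨hl8', ?_, ?_, ?_⟩
    · rw [h2, sq (-1)]
      linear_combination (norm := module) A1 • a₀ + A2 - A3
    · rw [h2, map_add, map_add, map_smul, map_smul, idem, hu, hv, ← h2, ha2, e01, hw, hl8']
      module
    · rw [ha2, map_sub, map_add, map_smul, hcomm a₁ a₀, h₁.2.2.1.1.2.1, hlhs, e01, hw, hl8'] 
      rw [hl8'] at C2 C3
      have hk : k = l - l ^ 2 := by linarith
      rw [hl8'] at hk
      rw [hk]
      linear_combination (norm := module) (-8 : ℝ) • C2 + (-8 : ℝ) • C3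
  · left
    subst hv0
    simp only [LinearMap.zero_apply, map_zero] at hvv
    have hk : k = 0 := (sep k z 0 hz (by simp) (by rw [← hvv, add_zero])).1
    subst hk
    have h2 : l * (l - 1) = 0 := by linear_combination A1
    rcases mul_eq_zero.1 h2 with h | h
    · exact ⟨h, by rw [e01, h]; simp⟩
    · exfalso
      have hl1 : l = 1 := by linarith
      rw [hl1, one_smul, add_zero] at hw
      have h3 : B u u = 0 := by
        have := hn₁
        rw [hw] at this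
        simp only [map_add, LinearMap.add_apply, hn₀, hBu, hsymm u a₀] at this
        linarith
      by_cases hu0 : u = 0
      · exact hne (by rw [hw, hu0, add_zero])
      · exact (hpos u hu0).ne' h3

end Cfsg.Agent.Known.MajoranaCommute
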