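import Cfsg.Prelude.Def_AxialAlgebras

namespace Cfsg.Agent.Lib.MajoranaTwoAPure

variable {V : Type*} [AddCommGroup V] [Module ℝ V]

theorem card_le_four [FiniteDimensional ℝ V] (mul : V →ₗ[ℝ] V →ₗ[ℝ] V) (B : LinearMap.BilinForm ℝ V)
    (hV : Cfsg.Axial.IsMajoranaAmbient mul B) (X : Subgroup (V ≃ₗ[ℝ] V)) (hX : ∀ x ∈ X, x * x = 1)
    (ax : (V ≃ₗ[ℝ] V) → V) (hax : ∀ x ∈ X, x ≠ 1 → Cfsg.Axial.IsMajoranaPair mul B x (ax x))
    (h1 : ∀ x ∈ X, x ≠ 1 → B (ax x) (ax x) = 1)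
    (h2A : ∀ x ∈ X, ∀ y ∈ X, x ≠ 1 → y ≠ 1 → x ≠ y →
      mul (ax x) (ax y) = (1 / 8 : ℝ) • (ax x + ax y - ax (x * y))) : Nat.card X ≤ 4 := by
  obtain ⟨hcomm, hsymm, -, hassoc, -⟩ := hV
  have ninv : ∀ x ∈ X, x⁻¹ = x := fun x hx => inv_eq_of_mul_eq_one_right (hX x hx)
  have pcomm : ∀ x ∈ X, ∀ y ∈ X, x * y = y * x := by
    intro x hx y hy
    have := ninv _ (mul_mem hx hy)
    rw [mul_inv_rev, ninv x hx, ninv y hy] at this
    exact this.symm
  have canc : ∀ x ∈ X, ∀ y, x * (x * y) = y := fun x hx y => by rw [← mul_assoc, hX x hx, one_mul]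
  have ne1 : ∀ x ∈ X, ∀ y, x ≠ y → x * y ≠ 1 := fun x hx y h e => by
    apply h
    have := canc x hx y
    rw [e, mul_one] at this
    exact this
  -- distinct axes have inner product one eighth
  have hne : ∀ x ∈ X, ∀ y ∈ X, x ≠ 1 → y ≠ 1 → x ≠ y → ax x ≠ ax y := by
    intro x hx y hy hx1 hy1 hxy he
    have e1 : B (ax x) (mul (ax x) (ax y)) = B (ax x) (ax y) := by
      rw [hassoc, (hax x hx hx1).2.2.1.1.2.1]
    have hxy1 := ne1 x hx y hxy
    have hxxy : x ≠ x * y := by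
      intro e
      exact hy1 (mul_left_cancel (e.symm.trans (mul_one x).symm))
    have e2 : B (ax x) (mul (ax x) (ax (x * y))) = B (ax x) (ax (x * y)) := by
      rw [hassoc, (hax x hx hx1).2.2.1.1.2.1]
    rw [h2A x hx y hy hx1 hy1 hxy] at e1
    rw [h2A x hx _ (mul_mem hx hy) hx1 hxy1 hxxy, canc x hx y] at e2
    simp only [map_smul, map_add, map_sub, smul_eq_mul, h1 x hx hx1] at e1 e2
    rw [← he, h1 x hx hx1] at e1 e2
    linarith
  by_contra hlt
  push Not at hlt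
  have hfin : Finite X := Nat.finite_of_card_ne_zero (by omega)
  haveI := Fintype.ofFinite X
  classical
  have pick : ∀ S : Finset X, S.card ≤ 4 → ∃ a : X, a ∉ S := by
    intro S hS
    by_contra! h
    have := Finset.card_le_card (s := Finset.univ) fun a _ => h a
    rw [Finset.card_univ, ← Nat.card_eq_fintype_card] at this
    omega
  obtain ⟨⟨x, hx⟩, hx0⟩ := pick {1} (by simp)
  obtain ⟨⟨y, hy⟩, hy0⟩ := pick {1, ⟨x, hx⟩} (le_trans Finset.card_le_two (by norm_num))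
  obtain ⟨⟨z, hz⟩, hz0⟩ := pick {1, ⟨x, hx⟩, ⟨y, hy⟩, ⟨x, hx⟩ * ⟨y, hy⟩} Finset.card_le_four
  simp only [Finset.mem_insert, Finset.mem_singleton, Subtype.ext_iff, OneMemClass.coe_one,
    MulMemClass.coe_mul, not_or] at hx0 hy0 hz0
  obtain ⟨hy1, hyx⟩ := hy0
  obtain ⟨hz1, hzx, hzy, hzxy⟩ := hz0
  -- products of the three generators
  have hxy := mul_mem hx hy
  have hxz := mul_mem hx hz
  have hyz := mul_mem hy hz
  have xy1 : x * y ≠ 1 := ne1 x hx y (Ne.symm hyx)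
  have xz1 : x * z ≠ 1 := ne1 x hx z (Ne.symm hzx)
  have yz1 : y * z ≠ 1 := ne1 y hy z (Ne.symm hzy)
  have x_xy : x ≠ x * y := fun e => hy1 (mul_left_cancel (e.symm.trans (mul_one x).symm))
  have x_xz : x ≠ x * z := fun e => hz1 (mul_left_cancel (e.symm.trans (mul_one x).symm))
  have y_xz : y ≠ x * z := fun e => hzxy (by rw [e, canc x hx z])
  have xy_xz : x * y ≠ x * z := fun e => hzy (mul_left_cancel e).symm
  have x_yz : x ≠ y * z := fun e => hzxy (by rw [pcomm x hx y hy, e, canc y hy z])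
  have e_y_xz : y * (x * z) = x * (y * z) := by rw [← mul_assoc, pcomm y hy x hx, mul_assoc]
  have e_xy_xz : (x * y) * (x * z) = y * z := by
    rw [pcomm x hx y hy, mul_assoc, canc x hx z]
  set a := ax x with ha
  set p := ax y - ax (x * y) with hp
  set q := ax z - ax (x * z) with hq
  have eig : ∀ u ∈ X, u ≠ 1 → x ≠ u →
      ax u - ax (x * u) ∈ Cfsg.Axial.eigen mul a (1 / 4 : ℝ) := by
    intro u hu hu1 hxu
    rw [Cfsg.Axial.eigen, Module.End.mem_eigenspace_iff, map_sub, h2A x hx u hu (by exact hx0) hu1 hxu,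
      h2A x hx _ (mul_mem hx hu) hx0 (ne1 x hx u hxu)
        (fun e => hu1 (mul_left_cancel (e.symm.trans (mul_one x).symm))), canc x hx u]
    module
  have hpq : mul p q = (1 / 4 : ℝ) • (ax (x * (y * z)) - ax (y * z)) := by
    rw [hp, hq]
    simp only [map_sub, LinearMap.sub_apply]
    rw [h2A y hy z hz hy1 hz1 (Ne.symm hzy), h2A y hy _ hxz hy1 xz1 y_xz,
      h2A _ hxy z hz xy1 hz1 (Ne.symm hzxy), h2A _ hxy _ hxz xy1 xz1 xy_xz,
      e_y_xz, e_xy_xz, mul_assoc]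
    module
  have hfus := (hax x hx hx0).2.2.1.1.2.2.2 (1 / 4) (by simp [Cfsg.Axial.majoranaSpectrum])
    (1 / 4) (by simp [Cfsg.Axial.majoranaSpectrum]) p (eig y hy hy1 (Ne.symm hyx))
    q (eig z hz hz1 (Ne.symm hzx))
  have hlaw : Cfsg.Axial.monsterLaw (1 / 4 : ℝ) (1 / 32) (1 / 4) (1 / 4) = {1, 0} := by
    rw [Cfsg.Axial.monsterLaw]
    norm_num
  rw [hlaw, Cfsg.Axial.eigenSum, iSup_insert, iSup_singleton, Submodule.mem_sup] at hfus
  obtain ⟨u1, hu1, u0, hu0, hsum⟩ := hfus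
  have hm : ax (x * (y * z)) - ax (y * z) ∈ Cfsg.Axial.eigen mul a (1 / 4 : ℝ) := by
    rw [← neg_sub]
    exact Submodule.neg_mem _ (eig _ hyz yz1 x_yz)
  rw [Cfsg.Axial.eigen, Module.End.mem_eigenspace_iff] at hu1 hu0 hm
  rw [hpq] at hsum
  have hA : mul a u1 + mul a u0 = (1 / 4 : ℝ) • (u1 + u0) := by
    rw [← map_add, hsum, map_smul, hm]
  rw [hu1, hu0, one_smul, zero_smul, add_zero] at hA
  have hA2 := congrArg (mul a) hA
  rw [map_smul, map_add, hu1, hu0, one_smul, zero_smul, add_zero] at hA2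
  have hu : u1 = 0 := by
    have : (3 / 4 : ℝ) • u1 = 0 := by
      linear_combination (norm := module) hA2
    exact (smul_eq_zero.mp this).resolve_left (by norm_num)
  rw [hu, zero_add] at hA
  have hu' : u0 = 0 := (smul_eq_zero.mp hA.symm).resolve_left (by norm_num)
  rw [hu, hu', add_zero] at hsum
  have heq : ax (x * (y * z)) = ax (y * z) :=
    sub_eq_zero.mp ((smul_eq_zero.mp hsum.symm).resolve_left (by norm_num))
  exact hne _ (mul_mem hx hyz) _ hyz (ne1 x hx _ x_yz) yz1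
    (fun e => hx0 (mul_eq_right.mp e)) heq

end Cfsg.Agent.Lib.MajoranaTwoAPure
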