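import Cfsg.Agent.Lib.Classical.Linear

/-! Basic facts on matrix groups over finite fields used by several small statements. -/

set_option autoImplicit false

namespace Cfsg.Agent.Known.MatBasic

open Matrix

theorem exists_linearEquiv_det {F V : Type*} [Field F] [AddCommGroup V] [Module F V]
    [FiniteDimensional F V] [Nontrivial V] (c : Fˣ) :
    ∃ a : V ≃ₗ[F] V, LinearMap.det (a : V →ₗ[F] V) = (c : F) := by
  classical
  let b := Module.finBasis F V
  have hpos : 0 < Module.finrank F V := Module.finrank_pos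
  let i₀ : Fin (Module.finrank F V) := ⟨0, hpos⟩
  let f := Matrix.toLin b b (Matrix.diagonal (Function.update (fun _ => (1 : F)) i₀ (c : F)))
  have hdet : LinearMap.det f = (c : F) := by
    rw [show LinearMap.det f = _ from LinearMap.det_toLin b _, Matrix.det_diagonal,
      Finset.prod_update_of_mem (Finset.mem_univ i₀)]
    simp
  exact ⟨f.equivOfDetNeZero (by rw [hdet]; exact c.ne_zero), hdet⟩

theorem SL_transitive_subspaces {F : Type*} [Field F] {n : ℕ}
    (U₁ U₂ : Submodule F (Fin n → F)) (h : Module.finrank F U₁ = Module.finrank F U₂) :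
    ∃ g : Matrix.SpecialLinearGroup (Fin n) F,
      U₁.map ((Matrix.SpecialLinearGroup.toLin' g : (Fin n → F) ≃ₗ[F] (Fin n → F)) :
        (Fin n → F) →ₗ[F] (Fin n → F)) = U₂ := by
  by_cases h0 : Module.finrank F U₁ = 0
  · refine ⟨1, ?_⟩
    have h0' : Module.finrank F U₂ = 0 := by omega
    rw [Submodule.finrank_eq_zero.mp h0, Submodule.map_bot, Submodule.finrank_eq_zero.mp h0']
  obtain ⟨W₁, hW₁⟩ := U₁.exists_isCompl
  obtain ⟨W₂, hW₂⟩ := U₂.exists_isCompl
  have hW : Module.finrank F W₁ = Module.finrank F W₂ := by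
    have e₁ := Submodule.finrank_add_eq_of_isCompl hW₁
    have e₂ := Submodule.finrank_add_eq_of_isCompl hW₂
    omega
  let eU := LinearEquiv.ofFinrankEq U₁ U₂ h
  let eW := LinearEquiv.ofFinrankEq W₁ W₂ hW
  let P₁ := Submodule.prodEquivOfIsCompl U₁ W₁ hW₁
  let P₂ := Submodule.prodEquivOfIsCompl U₂ W₂ hW₂
  let g₀ : (Fin n → F) ≃ₗ[F] (Fin n → F) := P₁.symm.trans ((eU.prodCongr eW).trans P₂)
  have hne : LinearMap.det (g₀ : (Fin n → F) →ₗ[F] (Fin n → F)) ≠ 0 := (LinearEquiv.isUnit_det' g₀).ne_zero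
  haveI : Nontrivial U₂ := Module.nontrivial_of_finrank_pos (R := F) (by omega)
  obtain ⟨a, ha⟩ := exists_linearEquiv_det (V := U₂) (Units.mk0 _ hne)⁻¹
  let k : (Fin n → F) ≃ₗ[F] (Fin n → F) :=
    P₂.symm.trans ((a.prodCongr (LinearEquiv.refl F W₂)).trans P₂)
  let G : (Fin n → F) →ₗ[F] (Fin n → F) := (k : (Fin n → F) →ₗ[F] (Fin n → F)) ∘ₗ g₀
  have hk : LinearMap.det (k : (Fin n → F) →ₗ[F] (Fin n → F)) = LinearMap.det (a : U₂ →ₗ[F] U₂) := by
    have e : (k : (Fin n → F) →ₗ[F] (Fin n → F)) = (P₂ : _ →ₗ[F] _) ∘ₗ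
        ((a : U₂ →ₗ[F] U₂).prodMap (LinearMap.id : W₂ →ₗ[F] W₂)) ∘ₗ (P₂.symm : _ →ₗ[F] _) := rfl
    rw [e, LinearMap.det_conj, LinearMap.det_prodMap, LinearMap.det_id, mul_one]
  have hG : LinearMap.det G = 1 := by
    simp only [G, LinearMap.det_comp, hk, ha, Units.val_inv_eq_inv_val, Units.val_mk0]
    exact inv_mul_cancel₀ hne
  refine ⟨⟨LinearMap.toMatrix' G, by rw [LinearMap.det_toMatrix', hG]⟩, ?_⟩
  have hfun : ∀ v, (Matrix.SpecialLinearGroup.toLin'
      (⟨LinearMap.toMatrix' G, by rw [LinearMap.det_toMatrix', hG]⟩ :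
        Matrix.SpecialLinearGroup (Fin n) F)) v = G v := fun v =>
    congrArg (fun f : (Fin n → F) →ₗ[F] (Fin n → F) => f v) (Matrix.toLin'_toMatrix' G)
  refine Submodule.eq_of_le_of_finrank_eq ?_ ?_
  · rintro _ ⟨v, hv, rfl⟩
    rw [LinearEquiv.coe_coe, hfun]
    have e1 : P₁.symm v = (⟨v, hv⟩, 0) :=
      Submodule.prodEquivOfIsCompl_symm_apply_left U₁ W₁ hW₁ ⟨v, hv⟩
    have e2 : g₀ v = (eU ⟨v, hv⟩ : Fin n → F) := by simp [g₀, e1, P₂]
    show k (g₀ v) ∈ U₂
    have e3 : P₂.symm (g₀ v) = (eU ⟨v, hv⟩, 0) := by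
      rw [e2]; exact Submodule.prodEquivOfIsCompl_symm_apply_left U₂ W₂ hW₂ _
    simp [k, e3, P₂]
  · rw [← h]; exact LinearEquiv.finrank_map_eq _ _

theorem exists_unique_lift {G : Type*} [Group G] (Z : Subgroup G) [Z.Normal] [Finite Z]
    (hZ : Z ≤ Subgroup.center G) {r : ℕ} (hr : r.Prime) (hdvd : ¬ r ∣ Nat.card Z) (x : G ⧸ Z)
    (hx : orderOf x = r) : ∃! g : G, (QuotientGroup.mk g : G ⧸ Z) = x ∧ orderOf g = r := by
  have hcop : (Nat.card Z).Coprime r := ((hr.coprime_iff_not_dvd).mpr hdvd).symm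
  obtain ⟨g₀, rfl⟩ := QuotientGroup.mk_surjective x
  have hz : g₀ ^ r ∈ Z := by
    rw [← QuotientGroup.eq_one_iff, QuotientGroup.mk_pow, ← hx, pow_orderOf_eq_one]
  obtain ⟨⟨s, hs⟩, hs'⟩ := (powCoprime hcop).surjective ⟨g₀ ^ r, hz⟩
  have hsr : s ^ r = g₀ ^ r := congrArg Subtype.val hs'
  have hcomm : Commute g₀ s⁻¹ := Subgroup.mem_center_iff.mp (hZ (inv_mem hs)) g₀
  have hmk : ((g₀ * s⁻¹ : G) : G ⧸ Z) = (g₀ : G ⧸ Z) := by
    rw [QuotientGroup.eq]; simpa [mul_assoc] using hs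
  haveI : Fact r.Prime := ⟨hr⟩
  have hord : orderOf (g₀ * s⁻¹) = r := by
    refine orderOf_eq_prime (by rw [hcomm.mul_pow, inv_pow, hsr, mul_inv_cancel]) fun e => ?_
    rw [e, QuotientGroup.mk_one] at hmk
    rw [← hmk, orderOf_one] at hx
    exact hr.one_lt.ne hx
  refine ⟨g₀ * s⁻¹, ⟨hmk, hord⟩, ?_⟩
  rintro g ⟨hg, hgo⟩
  have ht : (g₀ * s⁻¹)⁻¹ * g ∈ Z := QuotientGroup.eq.mp (hmk.trans hg.symm)
  have hg1 : g ^ r = 1 := by rw [← hgo, pow_orderOf_eq_one]
  obtain ⟨t, ht', rfl⟩ : ∃ t ∈ Z, g = (g₀ * s⁻¹) * t := ⟨_, ht, by rw [mul_inv_cancel_left]⟩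
  have hc : Commute (g₀ * s⁻¹) t := Subgroup.mem_center_iff.mp (hZ ht') _
  rw [hc.mul_pow, ← hord, pow_orderOf_eq_one, one_mul, hord] at hg1
  have : (⟨t, ht'⟩ : Z) = 1 := (powCoprime hcop).injective (Subtype.ext (by simpa using hg1))
  rw [show t = 1 from congrArg Subtype.val this, mul_one]

theorem quadratic_existsUnique {F V ι : Type*} [Field F] [CharP F 2] [AddCommGroup V] [Module F V]
    [Fintype ι] (b : Module.Basis ι F V) (B : LinearMap.BilinForm F V) (hB : B.IsAlt) (c : ι → F) :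
    ∃! Q : QuadraticForm F V, QuadraticMap.polarBilin Q = B ∧ ∀ i, Q (b i) = c i := by
  classical
  let e := Fintype.equivFin ι
  let A : LinearMap.BilinForm F V := b.constr F fun i => b.constr F fun j =>
    if i = j then c i else if e i < e j then B (b i) (b j) else 0
  have hA : ∀ i j, A (b i) (b j) = if i = j then c i else if e i < e j then B (b i) (b j) else 0 :=
    fun i j => by simp only [A, Module.Basis.constr_basis]
  let Q₀ : QuadraticForm F V := LinearMap.BilinMap.toQuadraticMap A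
  have h2 : (2 : F) = 0 := CharTwo.two_eq_zero
  have hp : QuadraticMap.polarBilin Q₀ = B := by
    refine LinearMap.ext_basis b b fun i j => ?_
    rw [QuadraticMap.polarBilin_apply_apply, LinearMap.BilinMap.polar_toQuadraticMap, hA, hA]
    by_cases hij : i = j
    · subst hij
      simp [hB (b i), CharTwo.add_self_eq_zero]
    · have hji : ¬ j = i := fun h => hij h.symm
      have hneg : B (b j) (b i) = B (b i) (b j) := by
        rw [← LinearMap.IsAlt.neg hB (b i) (b j), CharTwo.neg_eq]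
      rcases lt_or_gt_of_ne (fun h => hij (e.injective h) : e i ≠ e j) with hlt | hgt
      · simp [hij, hji, hlt, hlt.not_gt]
      · simp [hij, hji, hgt, hgt.not_gt, hneg]
  refine ⟨Q₀, ⟨hp, fun i => ?_⟩, ?_⟩
  · show A (b i) (b i) = c i
    simp [hA]
  rintro Q ⟨hQp, hQb⟩
  refine QuadraticMap.ext fun v => sub_eq_zero.mp ?_
  have hadd : ∀ x y, (Q - Q₀) (x + y) = (Q - Q₀) x + (Q - Q₀) y := fun x y => by
    have h1 : QuadraticMap.polar Q x y = QuadraticMap.polar Q₀ x y := by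
      rw [← QuadraticMap.polarBilin_apply_apply, ← QuadraticMap.polarBilin_apply_apply, hQp, hp]
    simp only [QuadraticMap.polar] at h1
    simp only [_root_.sub_apply, QuadraticMap.sub_apply]
    linear_combination h1
  show (Q - Q₀) v = 0
  have hv : v ∈ Submodule.span F (Set.range b) := by rw [b.span_eq]; trivial
  induction hv using Submodule.span_induction with
  | mem x hx =>
    obtain ⟨i, rfl⟩ := hx
    show Q (b i) - A (b i) (b i) = 0
    simp [hQb, hA]
  | zero => exact QuadraticMap.map_zero _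
  | add x y _ _ hx hy => rw [hadd, hx, hy, add_zero]
  | smul a x _ hx => rw [QuadraticMap.map_smul, hx, smul_zero]

/-! ### Scalars making a determinant one -/

variable {F : Type*} [Field F] [Fintype F] {q : ℕ}

theorem neg_one_ne_one_of_odd (hF : Fintype.card F = q) (hq : Odd q) : (-1 : F) ≠ 1 :=
  Ring.neg_one_ne_one_of_char_ne_two fun h => by
    have := FiniteField.even_card_of_char_two h
    rw [hF, Nat.odd_iff.mp hq] at this; exact one_ne_zero this

theorem exists_pow_eq_neg_one_iff (hF : Fintype.card F = q) (hq : Odd q) {n : ℕ} (hn : 1 ≤ n) :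
    (∃ c : F, c ≠ 0 ∧ c ^ n = -1) ↔ padicValNat 2 n < padicValNat 2 (q - 1) := by
  haveI : Fact (Nat.Prime 2) := ⟨Nat.prime_two⟩
  have hq1 : q - 1 ≠ 0 := by have := Fintype.one_lt_card (α := F); omega
  constructor
  · rintro ⟨c, hc, h⟩
    by_contra hle
    push Not at hle
    have h1 : orderOf c ∣ 2 * n :=
      orderOf_dvd_of_pow_eq_one (by rw [two_mul, pow_add, h]; ring)
    have h2 : orderOf c ∣ q - 1 := orderOf_dvd_of_pow_eq_one (by rw [← hF]; exact FiniteField.pow_card_sub_one_eq_one c hc)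
    have hne : ¬ orderOf c ∣ n := fun hd => neg_one_ne_one_of_odd hF hq (h ▸ orderOf_dvd_iff_pow_eq_one.mp hd)
    refine hne (Nat.dvd_trans (Nat.dvd_gcd h1 h2) ?_)
    have key : Nat.gcd (2 * n) (q - 1) ∣ n := by
      set d := Nat.gcd (2 * n) (q - 1) with hd
      have d1 : d ∣ 2 * n := Nat.gcd_dvd_left _ _
      obtain ⟨k, m, hm, hdm⟩ := Nat.exists_eq_pow_mul_and_not_dvd
        (Nat.gcd_ne_zero_right hq1 : d ≠ 0) 2 (by norm_num)
      have hk : 2 ^ k ∣ q - 1 := (Dvd.intro m hdm.symm).trans (Nat.gcd_dvd_right _ _)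
      have hk' : 2 ^ k ∣ n := (pow_dvd_pow 2 ((padicValNat_dvd_iff_le hq1).mp hk |>.trans hle)).trans pow_padicValNat_dvd
      have hmc : Nat.Coprime m 2 := ((Nat.prime_two.coprime_iff_not_dvd).mpr hm).symm
      have hm' : m ∣ n := hmc.dvd_of_dvd_mul_left ((Dvd.intro_left _ hdm.symm).trans d1)
      rw [show d = 2 ^ k * m from hdm]
      exact (Nat.Coprime.pow_left k hmc.symm).mul_dvd_of_dvd_of_dvd hk' hm'
    exact key
  · intro hlt
    obtain ⟨k, m, hm, hnm⟩ := Nat.exists_eq_pow_mul_and_not_dvd (n := n) (by omega) 2 (by norm_num)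
    have hk : k ≤ padicValNat 2 n := (padicValNat_dvd_iff_le (by omega)).mp (Dvd.intro m hnm.symm)
    have hd : 2 ^ (k + 1) ∣ q - 1 := (padicValNat_dvd_iff_le hq1).mpr (by omega)
    obtain ⟨u, hu⟩ := IsCyclic.exists_ofOrder_eq_natCard (α := Fˣ)
    rw [Nat.card_units, Nat.card_eq_fintype_card, hF] at hu
    obtain ⟨t, ht⟩ := hd
    have hord : orderOf (u ^ t) = 2 ^ (k + 1) := by
      rw [orderOf_pow_of_dvd (by rintro rfl; simp at ht; omega) (by rw [hu, ht]; exact dvd_mul_left _ _), hu, ht]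
      exact Nat.mul_div_cancel _ (Nat.pos_of_ne_zero (by rintro rfl; simp at ht; omega))
    have hc : ((u ^ t : Fˣ) : F) ^ (2 ^ k) = -1 := by
      have h1 : (((u ^ t : Fˣ) : F) ^ (2 ^ k)) ^ 2 = 1 := by
        rw [← pow_mul, ← pow_succ, ← hord, ← Units.val_pow_eq_pow_val, pow_orderOf_eq_one, Units.val_one]
      rcases sq_eq_one_iff.mp h1 with h | h
      · have h' : (u ^ t : Fˣ) ^ (2 ^ k) = 1 := Units.ext (by simpa using h)
        have := orderOf_dvd_of_pow_eq_one h'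
        rw [hord, Nat.pow_dvd_pow_iff_le_right (by norm_num)] at this
        omega
      · exact h
    refine ⟨((u ^ t : Fˣ) : F), Units.ne_zero _, ?_⟩
    rw [hnm, pow_mul, hc, Odd.neg_one_pow (Nat.odd_iff.mpr (by omega))]

theorem scalar_diag_iff (hF : Fintype.card F = q) (hq : Odd q) {n : ℕ} (hn : 1 ≤ n) (i : ℕ) (hi : i ≤ n) :
    (∃ c : F, c ≠ 0 ∧ (c • Matrix.diagonal (fun j : Fin n => if (j : ℕ) < i then (-1 : F) else 1)).det = 1) ↔
      (Even i ∨ padicValNat 2 n < padicValNat 2 (q - 1)) := by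
  have hdet : ∀ c : F, (c • Matrix.diagonal (fun j : Fin n => if (j : ℕ) < i then (-1 : F) else 1)).det =
      c ^ n * (-1) ^ i := fun c => by
    rw [Matrix.det_smul, Fintype.card_fin, Matrix.det_diagonal, Finset.prod_ite]
    simp [Fin.card_filter_val_lt, Nat.min_eq_right hi]
  simp only [hdet]
  rcases Nat.even_or_odd i with he | ho
  · exact iff_of_true ⟨1, one_ne_zero, by simp [he.neg_one_pow]⟩ (Or.inl he)
  · simp only [ho.neg_one_pow, mul_neg, mul_one, neg_eq_iff_eq_neg, Nat.not_even_iff_odd.mpr ho, false_or]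
    exact exists_pow_eq_neg_one_iff hF hq hn

theorem scalar_block_iff (hF : Fintype.card F = q) (hq : Odd q) {m : ℕ} (hm : 1 ≤ m) (μ : F)
    (hμ : orderOf μ = 2 ^ padicValNat 2 (q - 1)) :
    (∃ c : F, c ≠ 0 ∧ (c • Matrix.blockDiagonal (fun _ : Fin m => !![(0 : F), 1; μ, 0])).det = 1) ↔
      (q % 4 = 3 ∨ padicValNat 2 (q - 1) < padicValNat 2 (2 * m)) := by
  haveI : Fact (Nat.Prime 2) := ⟨Nat.prime_two⟩
  have hqcard := Fintype.one_lt_card (α := F)
  rw [hF] at hqcard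
  have hq1 : q - 1 ≠ 0 := by omega
  have hodd := Nat.odd_iff.mp hq
  have hdet : ∀ c : F, (c • Matrix.blockDiagonal (fun _ : Fin m => !![(0 : F), 1; μ, 0])).det =
      (c ^ 2 * -μ) ^ m := fun c => by
    rw [Matrix.det_smul, Matrix.det_blockDiagonal]
    simp [Matrix.det_fin_two_of, pow_mul, ← mul_pow]
  simp only [hdet]
  set s := padicValNat 2 (q - 1) with hs
  have hv : padicValNat 2 (2 * m) = padicValNat 2 m + 1 := by
    rw [padicValNat.mul (by norm_num) (by omega), padicValNat.self (by norm_num), add_comm]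
  obtain ⟨K, hK⟩ : 2 ^ s ∣ q - 1 := pow_padicValNat_dvd
  have hs1 : 1 ≤ s := (padicValNat_dvd_iff_le hq1).mp (by omega : 2 ^ 1 ∣ q - 1)
  have hKodd : K % 2 = 1 := by
    by_contra hK2
    have : s + 1 ≤ s := (padicValNat_dvd_iff_le hq1).mp ⟨K / 2, by rw [hK, pow_succ, mul_assoc]; congr 1; omega⟩
    omega
  by_cases h4 : q % 4 = 3
  · have hs' : s = 1 := by
      by_contra hne
      have : 2 ^ 2 ∣ q - 1 := (padicValNat_dvd_iff_le hq1).mpr (by omega)
      omega
    refine iff_of_true ⟨1, one_ne_zero, ?_⟩ (Or.inl h4)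
    rw [hs', pow_one] at hμ
    obtain ⟨hμ1, hμ2⟩ := orderOf_eq_prime_iff.mp hμ
    rw [(sq_eq_one_iff.mp hμ1).resolve_left hμ2]
    simp
  have hs2 : 2 ≤ s := (padicValNat_dvd_iff_le hq1).mp (by omega : 2 ^ 2 ∣ q - 1)
  simp only [h4, false_or, hv, Nat.lt_succ_iff]
  constructor
  · rintro ⟨c, hc, h⟩
    by_contra hlt
    clear_value s
    obtain ⟨t, rfl⟩ : ∃ t, s = t + 2 := ⟨s - 2, by omega⟩
    have hhalf : (c ^ 2 * -μ) ^ (2 ^ (t + 1) * K) = -1 := by
      have hμh : μ ^ (2 ^ (t + 1)) = -1 := by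
        have h1 : (μ ^ (2 ^ (t + 1))) ^ 2 = 1 := by
          rw [← pow_mul, ← pow_succ, ← hμ, pow_orderOf_eq_one]
        refine (sq_eq_one_iff.mp h1).resolve_left fun h => ?_
        have := orderOf_dvd_of_pow_eq_one h
        rw [hμ, Nat.pow_dvd_pow_iff_le_right (by norm_num)] at this
        omega
      have hc1 : (c ^ 2) ^ (2 ^ (t + 1) * K) = 1 := by
        rw [← pow_mul, show 2 * (2 ^ (t + 1) * K) = q - 1 by rw [hK]; ring, ← hF]
        exact FiniteField.pow_card_sub_one_eq_one c hc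
      rw [mul_pow, hc1, one_mul, pow_mul,
        (Nat.even_pow.mpr ⟨even_two, by omega⟩ : Even (2 ^ (t + 1))).neg_pow, hμh,
        Odd.neg_one_pow (Nat.odd_iff.mpr hKodd)]
    refine neg_one_ne_one_of_odd hF hq (hhalf.symm.trans ?_)
    rw [← orderOf_dvd_iff_pow_eq_one]
    have h1 : orderOf (c ^ 2 * -μ) ∣ m := orderOf_dvd_of_pow_eq_one h
    have h2 : orderOf (c ^ 2 * -μ) ∣ q - 1 := by
      refine orderOf_dvd_of_pow_eq_one ?_
      rw [show q - 1 = 2 ^ (t + 1) * K * 2 by rw [hK]; ring, pow_mul, hhalf]; norm_num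
    obtain ⟨k, w, hw, hkw⟩ := Nat.exists_eq_pow_mul_and_not_dvd
      (n := orderOf (c ^ 2 * -μ)) (fun e => by rw [e] at h1; simp at h1; omega) 2 (by norm_num)
    rw [hkw] at h1 h2 ⊢
    have hk : k ≤ t + 1 := by
      have := (padicValNat_dvd_iff_le (show m ≠ 0 by omega)).mp ((Dvd.intro w rfl).trans h1)
      omega
    have hw' : w ∣ K := by
      have hwc : Nat.Coprime w 2 := ((Nat.prime_two.coprime_iff_not_dvd).mpr hw).symm
      exact (hwc.pow_right (t + 2)).dvd_of_dvd_mul_left (hK ▸ (Dvd.intro_left _ rfl).trans h2)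
    exact mul_dvd_mul (pow_dvd_pow 2 hk) hw'
  · intro hle
    refine ⟨1, one_ne_zero, ?_⟩
    obtain ⟨w, hw⟩ : 2 ^ s ∣ m := (padicValNat_dvd_iff_le (by omega)).mpr hle
    rw [one_pow, one_mul, hw, pow_mul,
      (Nat.even_pow.mpr ⟨even_two, by omega⟩ : Even (2 ^ s)).neg_pow, ← hμ, pow_orderOf_eq_one, one_pow]

/-! ### A non-split extension -/

theorem no_complement_of_perfect {G : Type*} [Group G] (hG : commutator G = ⊤) (Z K : Subgroup G)
    (hZ : Z ≤ Subgroup.center G) (hZ1 : Z ≠ ⊥) : ¬ Subgroup.IsComplement' Z K := by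
  intro h
  refine hZ1 ?_
  have hsup := h.sup_eq_top
  have hKtop : K = ⊤ := by
    rw [eq_top_iff, ← hG, commutator_eq_closure, Subgroup.closure_le]
    rintro _ ⟨a, b, rfl⟩
    obtain ⟨⟨⟨z, hz⟩, ⟨k, hk⟩⟩, rfl⟩ := h.2 a
    obtain ⟨⟨⟨w, hw⟩, ⟨l, hl⟩⟩, rfl⟩ := h.2 b
    have hzc : ∀ g, g * z = z * g := fun g => Subgroup.mem_center_iff.mp (hZ hz) g
    have hwc : ∀ g, g * w = w * g := fun g => Subgroup.mem_center_iff.mp (hZ hw) g
    show (z * k) * (w * l) * (z * k)⁻¹ * (w * l)⁻¹ ∈ K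
    have e1 : ∀ {c : G}, (∀ g, g * c = c * g) → ∀ y : G, c * y * c⁻¹ = y := fun {c} hc y => by
      rw [← hc y, mul_inv_cancel_right]
    have : (z * k) * (w * l) * (z * k)⁻¹ * (w * l)⁻¹ = k * l * k⁻¹ * l⁻¹ := by
      calc (z * k) * (w * l) * (z * k)⁻¹ * (w * l)⁻¹
          = (z * (k * (w * l) * k⁻¹) * z⁻¹) * (w * l)⁻¹ := by group
        _ = (k * w) * l * k⁻¹ * l⁻¹ * w⁻¹ := by rw [e1 hzc]; group
        _ = w * (k * l * k⁻¹ * l⁻¹) * w⁻¹ := by rw [hwc k]; group
        _ = k * l * k⁻¹ * l⁻¹ := e1 hwc _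
    rw [this]
    exact mul_mem (mul_mem (mul_mem hk hl) (inv_mem hk)) (inv_mem hl)
  exact disjoint_top.mp (hKtop ▸ h.disjoint)

end Cfsg.Agent.Known.MatBasic
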