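import Mathlib

/-! Exponent of the special linear groups over the field with two elements. -/

set_option autoImplicit false

namespace Cfsg.Agent.Known

open Polynomial

theorem zmod_two_cases : ∀ z : ZMod 2, z = 0 ∨ z = 1 := by decide

/-- The odd part of the exponent. -/
noncomputable def oddExp (n : ℕ) : ℕ := (Finset.Ioc (n / 2) n).lcm fun d => 2 ^ d - 1

theorem two_pow_sub_one_dvd_oddExp {n d : ℕ} (hd : 1 ≤ d) (hdn : d ≤ n) : 2 ^ d - 1 ∣ oddExp n := by
  obtain ⟨j, hj⟩ : ∃ j, j * d ∈ Finset.Ioc (n / 2) n := by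
    refine ⟨n / d, Finset.mem_Ioc.mpr ⟨?_, Nat.div_mul_le_self n d⟩⟩
    have h1 : n < (n / d + 1) * d := by
      have := Nat.div_add_mod n d
      have := Nat.mod_lt n (show d > 0 by omega)
      nlinarith
    have h2 : 1 ≤ n / d := Nat.div_pos hdn (by omega)
    have h3 : d ≤ n / d * d := Nat.le_mul_of_pos_left d h2
    rw [Nat.add_mul, one_mul] at h1
    omega
  refine (Nat.pow_sub_one_dvd_pow_sub_one 2 (dvd_mul_left d j)).trans ?_
  exact Finset.dvd_lcm (f := fun d => 2 ^ d - 1) hj

theorem oddExp_ne_zero (n : ℕ) : oddExp n ≠ 0 := by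
  rw [oddExp, Ne, Finset.lcm_eq_zero_iff]
  simp only [Finset.mem_coe, Finset.mem_Ioc, Set.mem_image, not_exists, not_and]
  intro d hd h
  have : 2 ≤ 2 ^ d := Nat.le_self_pow (by omega) 2
  omega

theorem irreducible_dvd_X_pow_sub_one {p : (ZMod 2)[X]} (hp : Irreducible p) (hX : p.eval 0 ≠ 0)
    {m : ℕ} (hm : 2 ^ p.natDegree - 1 ∣ m) : p ∣ X ^ m - 1 := by
  haveI := Fact.mk hp
  haveI : Module.Finite (ZMod 2) (AdjoinRoot p) := (AdjoinRoot.powerBasis hp.ne_zero).finite
  haveI : Finite (AdjoinRoot p) := Module.finite_of_finite (ZMod 2)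
  letI := Fintype.ofFinite (AdjoinRoot p)
  have hcard : Fintype.card (AdjoinRoot p) = 2 ^ p.natDegree := by
    rw [← Nat.card_eq_fintype_card, Module.natCard_eq_pow_finrank (K := ZMod 2), Nat.card_zmod,
      (AdjoinRoot.powerBasis hp.ne_zero).finrank, AdjoinRoot.powerBasis_dim]
  have h0 : AdjoinRoot.root p ≠ 0 := by
    intro h
    have := AdjoinRoot.eval₂_root p
    rw [h, Polynomial.eval₂_at_zero] at this
    refine hX ?_
    rw [← Polynomial.coeff_zero_eq_eval_zero]
    exact (AdjoinRoot.of p).injective (by rw [this, map_zero])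
  have h1 : AdjoinRoot.root p ^ m = 1 := by
    obtain ⟨k, rfl⟩ := hm
    rw [← hcard, pow_mul, FiniteField.pow_card_sub_one_eq_one _ h0, one_pow]
  rw [← AdjoinRoot.mk_eq_zero, map_sub, map_pow, AdjoinRoot.mk_X, map_one, h1, sub_self]

variable {n : ℕ}

theorem matrix_pow_exp (hn : n ≠ 0) (A : Matrix (Fin n) (Fin n) (ZMod 2)) (hA : A.det ≠ 0) :
    A ^ (oddExp n * 2 ^ Nat.clog 2 n) = 1 := by
  haveI : Nonempty (Fin n) := ⟨⟨0, Nat.pos_of_ne_zero hn⟩⟩
  set f := A.charpoly with hf
  have hmonic : f.Monic := A.charpoly_monic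
  have hdeg : f.natDegree = n := by rw [hf, Matrix.charpoly_natDegree_eq_dim, Fintype.card_fin]
  set s := UniqueFactorizationMonoid.normalizedFactors f
  have hprod : Associated s.prod f := UniqueFactorizationMonoid.prod_normalizedFactors hmonic.ne_zero
  have hmem : ∀ p ∈ s, p ∣ X ^ oddExp n - 1 := by
    intro p hp
    have hpi := UniqueFactorizationMonoid.irreducible_of_normalized_factor p hp
    have hpf := UniqueFactorizationMonoid.dvd_of_mem_normalizedFactors hp
    refine irreducible_dvd_X_pow_sub_one hpi (fun h => ?_)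
      (two_pow_sub_one_dvd_oddExp hpi.natDegree_pos
        (hdeg ▸ Polynomial.natDegree_le_of_dvd hpf hmonic.ne_zero))
    obtain ⟨r, hr⟩ := hpf
    have : f.eval 0 = 0 := by rw [hr, eval_mul, h, zero_mul]
    rw [← coeff_zero_eq_eval_zero] at this
    exact hA (by rw [Matrix.det_eq_sign_charpoly_coeff, this, mul_zero])
  have hcard : s.card ≤ n := by
    rw [← hdeg, Polynomial.natDegree_eq_of_degree_eq (Polynomial.degree_eq_degree_of_associated hprod.symm),
      Polynomial.natDegree_multiset_prod _ (UniqueFactorizationMonoid.zero_notMem_normalizedFactors f)]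
    have := Multiset.card_nsmul_le_sum (s := s.map Polynomial.natDegree) (a := 1) (by
      intro x hx
      obtain ⟨p, hp, rfl⟩ := Multiset.mem_map.mp hx
      exact (UniqueFactorizationMonoid.irreducible_of_normalized_factor p hp).natDegree_pos)
    simpa using this
  have hdvd : f ∣ (X ^ oddExp n - 1) ^ 2 ^ Nat.clog 2 n := by
    refine (hprod.symm.dvd.trans ?_).trans
      (pow_dvd_pow _ (hcard.trans (Nat.le_pow_clog (by norm_num) n)))
    have := Multiset.prod_dvd_prod_of_dvd (S := s) (g1 := id) (g2 := fun _ => X ^ oddExp n - 1) hmem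
    simpa using this
  obtain ⟨r, hr⟩ := hdvd
  have h := congrArg (Polynomial.aeval A) hr
  rw [map_mul, A.aeval_self_charpoly, zero_mul, map_pow, map_sub, map_pow, aeval_X, map_one,
    sub_pow_char_pow_of_commute _ _ (Commute.one_right _), one_pow, sub_eq_zero, ← pow_mul] at h
  exact h

theorem sl_pow_exp (hn : n ≠ 0) (g : Matrix.SpecialLinearGroup (Fin n) (ZMod 2)) :
    g ^ (oddExp n * 2 ^ Nat.clog 2 n) = 1 := by
  apply Subtype.ext
  rw [Matrix.SpecialLinearGroup.coe_pow, Matrix.SpecialLinearGroup.coe_one]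
  exact matrix_pow_exp hn _ (by rw [g.2]; exact one_ne_zero)

theorem exists_sl_of_matrix {X : Matrix (Fin n) (Fin n) (ZMod 2)} {m : ℕ} (hm : m ≠ 0)
    (hX : orderOf X = m) : ∃ g : Matrix.SpecialLinearGroup (Fin n) (ZMod 2), orderOf g = m := by
  have h1 : X.det ^ m = 1 := by rw [← Matrix.det_pow, ← hX, pow_orderOf_eq_one, Matrix.det_one]
  have hdet : X.det = 1 := by
    rcases (show ∀ z : ZMod 2, z = 0 ∨ z = 1 by decide) X.det with h | h
    · rw [h, zero_pow hm] at h1; exact absurd h1 zero_ne_one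
    · exact h
  refine ⟨⟨X, hdet⟩, ?_⟩
  rw [← hX]
  exact (orderOf_injective
    ({ toFun := fun g : Matrix.SpecialLinearGroup (Fin n) (ZMod 2) => g.1
       map_one' := rfl
       map_mul' := fun _ _ => rfl } : Matrix.SpecialLinearGroup (Fin n) (ZMod 2) →* _)
    Subtype.val_injective ⟨X, hdet⟩).symm

theorem exists_order_two_pow_sub_one {d : ℕ} (hd : d ≠ 0) (hdn : d ≤ n) :
    ∃ g : Matrix.SpecialLinearGroup (Fin n) (ZMod 2), orderOf g = 2 ^ d - 1 := by
  obtain ⟨u, hu⟩ := IsCyclic.exists_generator (α := (GaloisField 2 d)ˣ)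
  have hou : orderOf u = 2 ^ d - 1 := by
    rw [orderOf_eq_card_of_forall_mem_zpowers hu, Nat.card_units, GaloisField.card 2 d hd]
  let b : Module.Basis (Fin d) (ZMod 2) (GaloisField 2 d) :=
    Module.finBasisOfFinrankEq _ _ (GaloisField.finrank 2 hd)
  let A := Algebra.leftMulMatrix b (u : GaloisField 2 d)
  have hA : orderOf A = 2 ^ d - 1 := by
    rw [← hou, ← orderOf_units]
    exact orderOf_injective (Algebra.leftMulMatrix b).toMonoidHom (Algebra.leftMulMatrix_injective b) _
  obtain ⟨e⟩ : Nonempty (Fin d ⊕ Fin (n - d) ≃ Fin n) :=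
    ⟨finSumFinEquiv.trans (finCongr (by omega))⟩
  let φ : Matrix (Fin d) (Fin d) (ZMod 2) →* Matrix (Fin n) (Fin n) (ZMod 2) :=
    { toFun := fun M => (Matrix.fromBlocks M 0 0 1).submatrix e.symm e.symm
      map_one' := by rw [Matrix.fromBlocks_one, Matrix.submatrix_one_equiv]
      map_mul' := fun M N => by
        rw [Matrix.submatrix_mul_equiv, Matrix.fromBlocks_multiply]; simp }
  have hφ : Function.Injective φ := fun M N h => by
    ext i j
    have := congrFun (congrFun h (e (Sum.inl i))) (e (Sum.inl j))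
    simpa [φ] using this
  refine exists_sl_of_matrix ?_ (X := φ A) ?_
  · have : 2 ≤ 2 ^ d := Nat.le_self_pow hd 2
    omega
  · rw [orderOf_injective φ hφ, hA]

/-- The nilpotent shift. -/
def shiftMat (n : ℕ) : Matrix (Fin n) (Fin n) (ZMod 2) := fun i j => if j.val = i.val + 1 then 1 else 0

theorem shiftMat_pow (n k : ℕ) (i j : Fin n) :
    (shiftMat n ^ k) i j = if j.val = i.val + k then 1 else 0 := by
  induction k generalizing j with
  | zero => simp [Matrix.one_apply, Fin.ext_iff, eq_comm]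
  | succ k ih =>
    rw [pow_succ, Matrix.mul_apply]
    simp only [ih, shiftMat, ite_mul, one_mul, zero_mul]
    by_cases h : i.val + k < n
    · rw [Finset.sum_eq_single ⟨i.val + k, h⟩]
      · simp [Nat.add_assoc]
      · intro b _ hb
        rw [if_neg fun e => hb (Fin.ext e)]
      · simp
    · rw [Finset.sum_eq_zero fun b _ => if_neg (by omega), if_neg (by omega)]

theorem exists_order_two_pow (hn : 2 ≤ n) :
    ∃ g : Matrix.SpecialLinearGroup (Fin n) (ZMod 2), orderOf g = 2 ^ Nat.clog 2 n := by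
  haveI : Nonempty (Fin n) := ⟨⟨0, by omega⟩⟩
  obtain ⟨c, hc⟩ : ∃ c, Nat.clog 2 n = c + 1 :=
    ⟨Nat.clog 2 n - 1, by have := Nat.clog_pos (b := 2) (by norm_num) hn; omega⟩
  refine exists_sl_of_matrix (by positivity) (X := 1 + shiftMat n) ?_
  rw [hc]
  refine orderOf_eq_prime_pow ?_ ?_
  · rw [add_pow_char_pow_of_commute _ _ (Commute.one_left _), one_pow]
    intro h
    have hlt : 2 ^ c < n := by
      have := Nat.pow_pred_clog_lt_self (b := 2) (by norm_num) (show 1 < n by omega)
      simpa [hc] using this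
    have := congrFun (congrFun (add_eq_left.mp h) ⟨0, by omega⟩) ⟨2 ^ c, hlt⟩
    rw [shiftMat_pow] at this
    simp at this
  · rw [add_pow_char_pow_of_commute _ _ (Commute.one_left _), one_pow, add_eq_left]
    ext i j
    rw [shiftMat_pow, if_neg]
    · rfl
    have := Nat.le_pow_clog (b := 2) (by norm_num) n
    rw [hc] at this
    omega

theorem range_order_pi {L : Type*} [Group L] (e : L ≃* Matrix.SpecialLinearGroup (Fin n) (ZMod 2))
    {k : ℕ} (hn : 2 ≤ n) (hk : (n + 3) / 2 ≤ k) :
    Set.range (orderOf : (Fin k → L) → ℕ) = Set.range (orderOf : (Fin ((n + 3) / 2) → L) → ℕ) := by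
  classical
  set M := oddExp n * 2 ^ Nat.clog 2 n
  have hM : M ≠ 0 := Nat.mul_ne_zero (oddExp_ne_zero n) (by positivity)
  obtain ⟨u, hu⟩ := exists_order_two_pow hn
  have hex : ∀ i : Fin ((n + 3) / 2), ∃ g : Matrix.SpecialLinearGroup (Fin n) (ZMod 2),
      orderOf g = if i.val < (n + 1) / 2 then 2 ^ (n / 2 + 1 + i.val) - 1 else 2 ^ Nat.clog 2 n := by
    intro i
    split_ifs with h
    · exact exists_order_two_pow_sub_one (by omega) (by omega)
    · exact ⟨u, hu⟩
  choose g hg using hex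
  let h : Fin ((n + 3) / 2) → L := fun i => e.symm (g i)
  have hdvd : ∀ i, orderOf (g i) ∣ orderOf h := fun i => by
    rw [← MulEquiv.orderOf_eq e.symm]
    exact orderOf_map_dvd (Pi.evalMonoidHom (fun _ => L) i) h
  have hMh : M ∣ orderOf h := by
    refine Nat.Coprime.mul_dvd_of_dvd_of_dvd ?_ ?_ ?_
    · refine Nat.Coprime.pow_right _ ?_
      rw [Nat.coprime_two_right]
      refine Nat.odd_iff.mpr ?_
      have hdv : oddExp n ∣ ∏ d ∈ Finset.Ioc (n / 2) n, (2 ^ d - 1) := Finset.lcm_dvd_prod _ _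
      have hodd : Odd (∏ d ∈ Finset.Ioc (n / 2) n, (2 ^ d - 1)) := by
        refine Finset.prod_induction _ _ (fun _ _ => Odd.mul) odd_one fun d hd => ?_
        exact Nat.Even.sub_odd Nat.one_le_two_pow
          (Nat.even_pow.mpr ⟨even_two, by have := Finset.mem_Ioc.mp hd; omega⟩) odd_one
      exact Nat.odd_iff.mp (hodd.of_dvd_nat hdv)
    · refine Finset.lcm_dvd fun d hd => ?_
      obtain ⟨h1, h2⟩ := Finset.mem_Ioc.mp hd
      have := hdvd ⟨d - (n / 2 + 1), by omega⟩
      rwa [hg, if_pos (by show d - (n / 2 + 1) < (n + 1) / 2; omega),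
        show n / 2 + 1 + (d - (n / 2 + 1)) = d by omega] at this
    · have := hdvd ⟨(n + 1) / 2, by omega⟩
      rwa [hg, if_neg (by simp)] at this
  refine Set.Subset.antisymm ?_ ?_
  · rintro o ⟨f, rfl⟩
    have hf : f ^ M = 1 := funext fun i => e.injective (by
      rw [Pi.pow_apply, map_pow, sl_pow_exp (by omega), Pi.one_apply, map_one])
    have hoh : orderOf f ∣ orderOf h := (orderOf_dvd_of_pow_eq_one hf).trans hMh
    haveI : Finite L := Finite.of_equiv _ e.symm.toEquiv
    refine ⟨h ^ (orderOf h / orderOf f), ?_⟩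
    exact orderOf_pow_orderOf_div (orderOf_pos h).ne' hoh
  · rintro o ⟨f, rfl⟩
    let ψ : (Fin ((n + 3) / 2) → L) →* (Fin k → L) :=
      { toFun := fun f i => if hi : i.val < (n + 3) / 2 then f ⟨i.val, hi⟩ else 1
        map_one' := funext fun i => by simp
        map_mul' := fun a b => funext fun i => by
          simp only [Pi.mul_apply]; split_ifs <;> simp }
    have hψ : Function.Injective ψ := fun a b h => funext fun i => by
      have := congrFun h ⟨i.val, lt_of_lt_of_le i.isLt hk⟩
      simpa [ψ, i.isLt] using this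
    exact ⟨ψ f, orderOf_injective ψ hψ f⟩

end Cfsg.Agent.Known
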